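import Groth.Agent.KoszSh.K880.Functor
import Groth.Agent.Krr.H502.KosSheaf
import Groth.Agent.Fdesc.QCohStalk
import Groth.Agent.PerfA.QCohEpi
import Mathlib.RingTheory.Regular.Flat

/-!
# Koszul complexes of regular cosections are acyclic

* `isLocBasis_of_isQCoh`: a basis of the sections of a quasi-coherent module over an affine open is a
  local basis;
* `kosEx_of_basis`: exactness of the algebraic Koszul complex over small affine opens, from a basis mapping
  to a weakly regular sequence;
* `isCtr`: the differentials of a Koszul complex are the contractions of `Krr.H502.KosSheaf`;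
* `isZero_homology`: the homology of the Koszul complex of a regular cosection vanishes in positive degrees.
-/

set_option autoImplicit false

universe u

open CategoryTheory CategoryTheory.Limits AlgebraicGeometry Opposite TopologicalSpace
open Groth.Agent.Sga67.Sec Groth.Agent.Sga67.LocBasis Groth.Agent.Sga67.ExtSheaf
open Groth.Agent.Sga67.SymKoszulAlg Groth.Agent.Krr.H502.KosExt Groth.Agent.Krr.H502.KosSheaf
open K880.Functor

namespace K880.Acyclic

variable {X : Scheme.{u}}

/-- A basis of the sections of a quasi-coherent module over an affine open is a local basis. -/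
theorem isLocBasis_of_isQCoh {M : X.Modules} (hM : Coh.IsQCoh M) {W : X.Opens} (hW : IsAffineOpen W)
    {κ : Type*} [Fintype κ] (b : Module.Basis κ Γ(X, W) Γ(M, W)) :
    IsLocBasis (M := M) (U := W) (κ := κ) (fun i => (show Sec M W from b i)) := by
  apply isLocBasis_of_locally
  intro x V hV hx
  obtain ⟨g, hg, hxg⟩ := hW.exists_basicOpen_le ⟨x, hx⟩ (hV hx)
  refine ⟨X.basicOpen g, hg.trans hV, hg, hxg, ?_⟩
  let := Groth.Agent.Fdesc.QCohStalk.resModule M (X.basicOpen_le g)
  have hloc := Groth.Agent.Fdesc.QCohStalk.isLocalizedModule_res M hW hM g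
  have hloc' := hW.isLocalization_basicOpen g
  have : IsScalarTower Γ(X, W) Γ(X, X.basicOpen g) Γ(M, X.basicOpen g) := by
    refine ⟨fun a b c => ?_⟩
    rw [Algebra.smul_def, mul_smul]
    rfl
  let b' := b.ofIsLocalizedModule Γ(X, X.basicOpen g) (.powers g)
    (Groth.Agent.Fdesc.QCohStalk.resₗ M (X.basicOpen_le g))
  have h1 : ∀ a : κ → Γ(X, X.basicOpen g), comb (M := M) (fun i => (show Sec M W from b i)) (hg.trans hV) a =
      b'.equivFun.symm a := by
    intro a
    rw [comb_apply, Module.Basis.equivFun_symm_apply]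
    refine Finset.sum_congr rfl fun i _ => ?_
    rw [Module.Basis.ofIsLocalizedModule_apply]
    rfl
  have h2 := b'.equivFun.symm.bijective
  exact ⟨fun s t hst => h2.1 (by rw [← h1, ← h1]; exact hst), fun s => by
    obtain ⟨a, ha⟩ := h2.2 s
    exact ⟨a, (h1 a).trans ha⟩⟩

/-- Weakly regular sequences restrict to basic opens. -/
theorem isWeaklyRegular_basicOpen {U : X.Opens} (hU : IsAffineOpen U) (g : Γ(X, U)) {n : ℕ}
    (f : Fin n → Γ(X, U)) (hf : RingTheory.Sequence.IsWeaklyRegular Γ(X, U) (List.ofFn f)) :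
    RingTheory.Sequence.IsWeaklyRegular Γ(X, X.basicOpen g)
      (List.ofFn fun j => resO X (X.basicOpen_le g) (f j)) := by
  have := hU.isLocalization_basicOpen g
  have h := hf.of_isLocalization (T := .powers g) (S := Γ(X, X.basicOpen g))
  rw [List.map_ofFn] at h
  exact h

/-- The differentials of a Koszul complex are contractions. -/
theorem isCtr {E : X.Modules} {s : E ⟶ Coh.structureModule X} (C : KoszSh.Cx E s) (p : ℕ) :
    IsCtr s (ph C (p + 1)) (ph C p) (C.K.d (p + 1) p) := by
  intro U z
  refine phi_induction (ph C (p + 1)) U (C := fun z => ph C p U (appS (C.K.d (p + 1) p) U.1 z) =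
    ctr (lin s U.1) p (ph C (p + 1) U z)) ?_ ?_ ?_ ?_ z
  · simp only [map_zero]
  · intro x y hx hy
    rw [map_add, map_add, map_add, map_add, hx, hy]
  · intro a x hx
    rw [map_smul, map_smul, map_smul, map_smul, hx]
  · intro e
    rw [rule, LinearEquiv.apply_symm_apply, LinearEquiv.apply_symm_apply, ctr_ιMulti, KoszSh.dGen]
    refine Finset.sum_congr rfl fun i _ => ?_
    rw [smul_smul]
    rfl

/-- Local exactness from bases mapping to weakly regular sequences. -/
theorem locEx_of_regular {n : ℕ} {E : X.Modules} (hE : Coh.IsQCoh E) (s : E ⟶ Coh.structureModule X)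
    (hs : ∀ x : X, ∃ U : X.affineOpens, x ∈ U.1 ∧ ∃ b : Module.Basis (Fin n) Γ(X, U.1) Γ(E, U.1),
      RingTheory.Sequence.IsWeaklyRegular Γ(X, U.1) (List.ofFn fun k => KoszSh.secForm s U.1 (b k))) :
    LocEx s := by
  intro x V hx
  obtain ⟨U, hxU, b, hb⟩ := hs x
  obtain ⟨g, hg, hxg⟩ := U.2.exists_basicOpen_le (V := V) ⟨x, hx⟩ hxU
  have hloc := isLocBasis_of_isQCoh hE U.2 b
  refine ⟨⟨X.basicOpen g, U.2.basicOpen g⟩, hg, hxg, ?_⟩
  apply kosEx_of_isWeaklyRegular (hloc.basis (X.basicOpen_le g))
  have h := isWeaklyRegular_basicOpen U.2 g _ hb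
  have h2 : ∀ j : Fin n, lin s (X.basicOpen g) (hloc.basis (X.basicOpen_le g) j) =
      resO X (X.basicOpen_le g) (KoszSh.secForm s U.1 (b j)) := by
    intro j
    rw [IsLocBasis.basis_apply, lin_res]
    rfl
  simp only [h2]
  exact h

theorem isZero_homology {E : X.Modules} {s : E ⟶ Coh.structureModule X} (C : KoszSh.Cx E s)
    (hs : LocEx s) (q : ℕ) (hq : 1 ≤ q) : IsZero (C.K.homology q) := by
  obtain ⟨a, rfl⟩ : ∃ a, q = a + 1 := ⟨q - 1, by omega⟩
  have h := exact_of_locEx hs (ph C (a + 2)) (ph C (a + 1)) (ph C a) (isCtr C (a + 1)) (isCtr C a)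
    (C.K.d_comp_d _ _ _)
  rw [← C.K.exactAt_iff_isZero_homology, C.K.exactAt_iff' (a + 2) (a + 1) a (by simp) (by simp)]
  exact h

end K880.Acyclic
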