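import Groth.Agent.KoszSh.K880.Homol
import Groth.Agent.FormalB.TrKQuot

/-!
# The fibre product of `i_* i^* Z ⟶ i_* i^* H` and `H ⟶ i_* i^* H` on sections over affine opens
-/

set_option autoImplicit false

universe u

open CategoryTheory CategoryTheory.Limits AlgebraicGeometry Opposite TopologicalSpace
open Groth.Agent.Sga67.Sec Groth.Agent.Sga67.LocBasis Groth.Agent.FormalB.TrKQuot
open K880.Homol

namespace K880.Fib

variable {X : Scheme.{u}} (D : X.IdealSheafData)

/-- The functor `i_* i^*`. -/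
noncomputable abbrev F : X.Modules ⥤ X.Modules :=
  Scheme.Modules.pullback D.subschemeι ⋙ Scheme.Modules.pushforward D.subschemeι

/-- The unit. -/
noncomputable abbrev η (M : X.Modules) : M ⟶ (F D).obj M :=
  (Scheme.Modules.pullbackPushforwardAdjunction D.subschemeι).unit.app M

theorem η_surjective {M : X.Modules} (hM : Coh.IsQCoh M) {U : X.Opens} (hU : IsAffineOpen U) :
    Function.Surjective (appS (η D M) U) :=
  IsKQuot.app_surjective (isKQuot_kπ D hM) hM hU

theorem η_eq_zero_iff {M : X.Modules} (hM : Coh.IsQCoh M) (U : X.affineOpens) {x : Γ(X, U.1)}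
    (hx : D.ideal U = Ideal.span {x}) (m : Sec M U.1) :
    appS (η D M) U.1 m = 0 ↔ ∃ m' : Sec M U.1, m = x • m' := by
  refine (IsKQuot.app_eq_zero_iff (isKQuot_kπ D hM) hM U m).trans ?_
  rw [hx, Submodule.ideal_span_singleton_smul, Submodule.mem_smul_pointwise_iff_exists]
  constructor
  · rintro ⟨m', -, h⟩
    exact ⟨m', h.symm⟩
  · rintro ⟨m', h⟩
    exact ⟨m', trivial, h.symm⟩

theorem η_naturality {M N : X.Modules} (f : M ⟶ N) : η D M ≫ (F D).map f = f ≫ η D N :=
  ((Scheme.Modules.pullbackPushforwardAdjunction D.subschemeι).unit.naturality f).symm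

theorem appS_η {M N : X.Modules} (f : M ⟶ N) {U : X.Opens} (m : Sec M U) :
    appS ((F D).map f) U (appS (η D M) U m) = appS (η D N) U (appS f U m) := by
  have h := congrArg (fun t => appS t U m) (η_naturality D f)
  exact h

variable {Z H : X.Modules} (π : Z ⟶ H)

/-- The fibre product. -/
noncomputable abbrev P : X.Modules := pullback ((F D).map π) (η D H)

/-- The comparison morphism. -/
noncomputable def α : Z ⟶ P D π := pullback.lift (η D Z) π (η_naturality D π)

theorem appS_fst_α {U : X.Opens} (z : Sec Z U) :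
    appS (pullback.fst ((F D).map π) (η D H)) U (appS (α D π) U z) = appS (η D Z) U z := by
  have h := congrArg (fun t => appS t U z) (pullback.lift_fst (η D Z) π (η_naturality D π))
  exact h

theorem appS_snd_α {U : X.Opens} (z : Sec Z U) :
    appS (pullback.snd ((F D).map π) (η D H)) U (appS (α D π) U z) = appS π U z := by
  have h := congrArg (fun t => appS t U z) (pullback.lift_snd (η D Z) π (η_naturality D π))
  exact h

theorem α_surjective (hZ : Coh.IsQCoh Z) (hH : Coh.IsQCoh H) (U : X.affineOpens)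
    {x : Γ(X, U.1)} (hx : D.ideal U = Ideal.span {x}) (hπ : Function.Surjective (appS π U.1)) :
    Function.Surjective (appS (α D π) U.1) := by
  intro p
  obtain ⟨z, hz⟩ := η_surjective D hZ U.2 (appS (pullback.fst ((F D).map π) (η D H)) U.1 p)
  have h0 : appS ((F D).map π) U.1 (appS (pullback.fst ((F D).map π) (η D H)) U.1 p) =
      appS (η D H) U.1 (appS (pullback.snd ((F D).map π) (η D H)) U.1 p) :=
    congrArg (fun t => appS t U.1 p) (pullback.condition (f := (F D).map π) (g := η D H))
  have h1 : appS (η D H) U.1 (appS π U.1 z - appS (pullback.snd ((F D).map π) (η D H)) U.1 p) = 0 := by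
    rw [map_sub, ← appS_η, hz, h0, sub_self]
  obtain ⟨h', hh'⟩ := (η_eq_zero_iff D hH U hx _).1 h1
  obtain ⟨z', rfl⟩ := hπ h'
  refine ⟨z - x • z', ?_⟩
  rw [← sub_eq_zero]
  apply pullback_ext
  · rw [map_sub, appS_fst_α, map_sub, (η_eq_zero_iff D hZ U hx _).2 ⟨z', rfl⟩, sub_zero, hz, sub_self]
  · rw [map_sub, appS_snd_α, map_sub, map_smul, ← hh']
    abel

theorem α_eq_zero_iff (hZ : Coh.IsQCoh Z) (U : X.affineOpens)
    {x : Γ(X, U.1)} (hx : D.ideal U = Ideal.span {x}) (hreg : IsSMulRegular (Sec H U.1) x) (z : Sec Z U.1) :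
    appS (α D π) U.1 z = 0 ↔ ∃ z' : Sec Z U.1, appS π U.1 z' = 0 ∧ z = x • z' := by
  constructor
  · intro h
    have h1 : appS (η D Z) U.1 z = 0 := by
      rw [← appS_fst_α D π, h, map_zero]
    have h2 : appS π U.1 z = 0 := by
      rw [← appS_snd_α D π, h, map_zero]
    obtain ⟨z', rfl⟩ := (η_eq_zero_iff D hZ U hx _).1 h1
    refine ⟨z', ?_, rfl⟩
    rw [map_smul] at h2
    exact hreg (h2.trans (smul_zero x).symm)
  · rintro ⟨z', h, rfl⟩
    apply pullback_ext
    · rw [appS_fst_α]
      exact (η_eq_zero_iff D hZ U hx _).2 ⟨z', rfl⟩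
    · rw [appS_snd_α, map_smul, h, smul_zero]

end K880.Fib
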