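import Groth.Prelude.Def_KoszulSh
import Groth.Agent.Sga67.TensorOps

/-!
# Functoriality of Koszul complexes of cosections

`ph C p` is the family of identifications `C.loc p` in the section calculus (`Sec`), `sForm s U` the
linear form `KoszSh.secForm s U`.

* `exists_comp`: the `p`-th exterior power `C.K.X p ⟶ D.K.X p` of `f : E ⟶ F`;
* `existsUnique_chainMap`: for `f ≫ t = s` these are the components of a unique chain map.
-/

set_option autoImplicit false

universe u

open CategoryTheory AlgebraicGeometry Opposite TopologicalSpace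
open Groth.Agent.Sga67.Sec Groth.Agent.Sga67.LocBasis Groth.Agent.Sga67.ExtSheaf

namespace K880.Functor

variable {X : Scheme.{u}}

/-- The identifications of a Koszul complex, in the section calculus. -/
noncomputable def ph {E : X.Modules} {s : E ⟶ Coh.structureModule X} (C : KoszSh.Cx E s) (p : ℕ) :
    Phi p E (C.K.X p) := fun U => C.loc p U

/-- The linear form attached to a cosection. -/
noncomputable def sForm {E : X.Modules} (s : E ⟶ Coh.structureModule X) (U : X.Opens) :
    Sec E U →ₗ[Γ(X, U)] Γ(X, U) := KoszSh.secForm s U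

theorem ph_comp {E : X.Modules} {s : E ⟶ Coh.structureModule X} (C : KoszSh.Cx E s) (p : ℕ) :
    PhiComp (ph C p) := fun U V h e => C.loc_res p U V h e

theorem rule {E : X.Modules} {s : E ⟶ Coh.structureModule X} (C : KoszSh.Cx E s) (p : ℕ)
    (U : X.affineOpens) (e : Fin (p + 1) → Sec E U.1) :
    appS (C.K.d (p + 1) p) U.1 ((ph C (p + 1) U).symm (exteriorPower.ιMulti _ (p + 1) e)) =
      (ph C p U).symm (KoszSh.dGen (sForm s U.1) p e) := C.rule p U e

theorem toO_appS {E : X.Modules} (s : E ⟶ Coh.structureModule X) (U : X.Opens) (e : Sec E U) :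
    toO (appS s U e) = sForm s U e := rfl

/-- Two morphisms out of a term of a Koszul complex agreeing on decomposable elements are equal. -/
theorem hom_ext_of_loc {E L : X.Modules} {p : ℕ} (φ : Phi p E L)
    {N : X.Modules} {f g : L ⟶ N}
    (h : ∀ (U : X.affineOpens) (e : Fin p → Sec E U.1),
      appS f U.1 ((φ U).symm (exteriorPower.ιMulti _ p e)) =
        appS g U.1 ((φ U).symm (exteriorPower.ιMulti _ p e))) : f = g := by
  apply hom_ext_of_locally
  intro x U hx
  obtain ⟨_, ⟨W, rfl⟩, hxW, hW⟩ := Opens.isBasis_iff_nbhd.mp (affineBasis X) hx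
  refine ⟨W.1, hW, hxW, ?_⟩
  intro z
  refine phi_induction φ W (C := fun z => appS f W.1 z = appS g W.1 z) ?_ ?_ ?_ ?_ z
  · rw [map_zero, map_zero]
  · intro x y hx hy
    rw [map_add, map_add, hx, hy]
  · intro a x hx
    rw [map_smul, map_smul, hx]
  · exact h W

theorem sForm_comp {E F : X.Modules} {s : E ⟶ Coh.structureModule X} {t : F ⟶ Coh.structureModule X}
    {f : E ⟶ F} (hf : f ≫ t = s) (U : X.Opens) (e : Sec E U) :
    sForm t U (appS f U e) = sForm s U e := by
  subst hf
  rfl

theorem map_dGen {R : Type*} [CommRing R] {M N : Type*} [AddCommGroup M] [Module R M] [AddCommGroup N]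
    [Module R N] (φ : M →ₗ[R] R) (ψ : N →ₗ[R] R) (f : M →ₗ[R] N) (h : ∀ m, ψ (f m) = φ m) (p : ℕ)
    (e : Fin (p + 1) → M) :
    exteriorPower.map p f (KoszSh.dGen φ p e) = KoszSh.dGen ψ p (fun j => f (e j)) := by
  rw [KoszSh.dGen, KoszSh.dGen, map_sum]
  refine Finset.sum_congr rfl fun i _ => ?_
  rw [map_smul, exteriorPower.map_apply_ιMulti, h]
  rfl

/-- The `p`-th exterior power of `f`, between terms of Koszul complexes. -/
theorem exists_comp {E F : X.Modules} (f : E ⟶ F) {p : ℕ} {L K : X.Modules} (φ : Phi p E L)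
    (hφ : PhiComp φ) (ψ : Phi p F K) (hψ : PhiComp ψ) :
    ∃ g : L ⟶ K, ∀ (U : X.affineOpens) (z : Sec L U.1),
      appS g U.1 z = (ψ U).symm (exteriorPower.map p (appS f U.1) (φ U z)) := by
  obtain ⟨g, hg⟩ := exists_extMap f φ hφ ψ hψ
  refine ⟨g, fun U z => ?_⟩
  rw [← hg U z, LinearEquiv.symm_apply_apply]

theorem existsUnique_chainMap {E F : X.Modules} {s : E ⟶ Coh.structureModule X}
    {t : F ⟶ Coh.structureModule X} (f : E ⟶ F) (hf : f ≫ t = s) (C : KoszSh.Cx E s) (D : KoszSh.Cx F t) :
    ∃! φ : C.K ⟶ D.K, ∀ (p : ℕ) (U : X.affineOpens) (e : Fin p → Sec E U.1),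
      appS (φ.f p) U.1 ((ph C p U).symm (exteriorPower.ιMulti _ p e)) =
        (ph D p U).symm (exteriorPower.ιMulti _ p (fun j => appS f U.1 (e j))) := by
  choose g hg using fun p => exists_comp f (ph C p) (ph_comp C p) (ph D p) (ph_comp D p)
  have hg' : ∀ (p : ℕ) (U : X.affineOpens) (e : Fin p → Sec E U.1),
      appS (g p) U.1 ((ph C p U).symm (exteriorPower.ιMulti _ p e)) =
        (ph D p U).symm (exteriorPower.ιMulti _ p (fun j => appS f U.1 (e j))) := by
    intro p U e
    rw [hg p U, LinearEquiv.apply_symm_apply, exteriorPower.map_apply_ιMulti]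
    rfl
  have hd : ∀ p : ℕ, g (p + 1) ≫ D.K.d (p + 1) p = C.K.d (p + 1) p ≫ g p := by
    intro p
    apply hom_ext_of_loc (ph C (p + 1))
    intro U e
    rw [appS_comp, appS_comp, hg' (p + 1) U e, rule, rule, hg p U, LinearEquiv.apply_symm_apply,
      map_dGen (sForm s U.1) (sForm t U.1) (appS f U.1) (fun m => sForm_comp hf U.1 m) p e]
  refine ⟨{ f := g, comm' := ?_ }, hg', ?_⟩
  · rintro i j hij
    obtain rfl : j + 1 = i := hij
    exact hd j
  · intro φ hφ
    ext p : 1
    apply hom_ext_of_loc (ph C p)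
    intro U e
    rw [hφ p U e]
    exact (hg' p U e).symm

end K880.Functor
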