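import Groth.Agent.Sga67.TensorOps

/-!
# Isomorphisms of sheaves of modules from relations on a basis; twisting by a local generator

* `nonempty_iso_of_rel`: two sheaves of modules are isomorphic if over the opens of a basis their sections
  are related by linear bijective relations compatible with restriction;
* `bijective_of_locally`: gluing;
* `twist_bijective`: if `t` is a local basis (of length one) of `N` over `U` then `m ↦ m ⊗ t` is bijective on
  sections over `U`.
-/

set_option autoImplicit false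

universe u

open CategoryTheory CategoryTheory.Limits AlgebraicGeometry Opposite TopologicalSpace
open scoped TensorProduct
open Groth.Agent.Sga67.Sec Groth.Agent.Sga67.LocBasis

namespace K880.Glue

variable {X : Scheme.{u}}

/-- Isomorphisms from relations on a basis. -/
theorem nonempty_iso_of_rel {ι : Type*} {B : ι → X.Opens} (hB : Opens.IsBasis (Set.range B))
    (M N : X.Modules) (R : ∀ i, Sec M (B i) → Sec N (B i) → Prop)
    (hadd : ∀ i b b' c c', R i b c → R i b' c' → R i (b + b') (c + c'))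
    (hsmul : ∀ i (a : Γ(X, B i)) b c, R i b c → R i (a • b) (a • c))
    (hl : ∀ i b, ∃ c, R i b c) (hr : ∀ i c, ∃ b, R i b c)
    (h0l : ∀ i c, R i 0 c → c = 0) (h0r : ∀ i b, R i b 0 → b = 0)
    (hres : ∀ i j (h : B j ≤ B i) b c, R i b c → R j (res M h b) (res N h c)) :
    Nonempty (M ≅ N) := by
  have huniq : ∀ i b c c', R i b c → R i b c' → c = c' := by
    intro i b c c' h h'
    have h1 := hadd i _ _ _ _ h (hsmul i (-1) _ _ h')
    rw [neg_smul, neg_smul, _root_.one_smul, _root_.one_smul, add_neg_cancel] at h1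
    exact sub_eq_zero.mp ((sub_eq_add_neg c c').trans (h0l i _ h1))
  have huniq' : ∀ i b b' c, R i b c → R i b' c → b = b' := by
    intro i b b' c h h'
    have h1 := hadd i _ _ _ _ h (hsmul i (-1) _ _ h')
    rw [neg_smul, neg_smul, _root_.one_smul, _root_.one_smul, add_neg_cancel] at h1
    exact sub_eq_zero.mp ((sub_eq_add_neg b b').trans (h0r i _ h1))
  choose f hf using hl
  let φ : ∀ i, Sec M (B i) →ₗ[Γ(X, B i)] Sec N (B i) := fun i =>
    { toFun := f i
      map_add' := fun a b => huniq i _ _ _ (hf i _) (hadd i _ _ _ _ (hf i a) (hf i b))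
      map_smul' := fun a b => huniq i _ _ _ (hf i _) (hsmul i a _ _ (hf i b)) }
  obtain ⟨g, hg⟩ := exists_hom_of_basis' hB M N φ (fun i j h s =>
    huniq j _ _ _ (hf j _) (hres i j h _ _ (hf i s)))
  have : IsIso g := isIso_of_bijective g (by
    intro x U hx
    obtain ⟨_, ⟨i, rfl⟩, hxi, hi⟩ := Opens.isBasis_iff_nbhd.mp hB hx
    refine ⟨B i, hi, hxi, ?_, ?_⟩
    · intro s t hst
      rw [hg, hg] at hst
      have h1 : f i s = f i t := hst
      refine huniq' i _ _ _ (hf i s) ?_
      rw [h1]
      exact hf i t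
    · intro c
      obtain ⟨b, hb⟩ := hr i c
      exact ⟨b, (hg i b).trans (huniq i _ _ _ (hf i b) hb)⟩)
  exact ⟨asIso g⟩

/-- Gluing sections. -/
theorem exists_glue (M : X.Modules) {V : X.Opens} (W : V → X.Opens) (hW : ∀ x, W x ≤ V)
    (hx : ∀ x : V, x.1 ∈ W x) (s : ∀ x, Sec M (W x))
    (h : ∀ x y, res M (inf_le_left : W x ⊓ W y ≤ W x) (s x) = res M (inf_le_right : W x ⊓ W y ≤ W y) (s y)) :
    ∃ t : Sec M V, ∀ x, res M (hW x) t = s x := by
  obtain ⟨c, hc, -⟩ := TopCat.Sheaf.existsUnique_gluing' ⟨M.presheaf, M.isSheaf⟩ (fun x : V => W x) V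
    (fun x => homOfLE (hW x)) (by
      intro x hx'
      exact Opens.mem_iSup.mpr ⟨⟨x, hx'⟩, hx ⟨x, hx'⟩⟩) (fun x => s x)
    (fun x y => h x y)
  exact ⟨c, fun x => hc x⟩

/-- A locally injective and locally surjective family of maps is bijective. -/
theorem bijective_of_locally {M N : X.Modules} {U : X.Opens}
    (f : ∀ (V : X.Opens), V ≤ U → (Sec M V →+ Sec N V))
    (hres : ∀ (V W : X.Opens) (hV : V ≤ U) (h : W ≤ V) (s : Sec M V),
      f W (h.trans hV) (res M h s) = res N h (f V hV s))
    (hinj : ∀ (V : X.Opens) (hV : V ≤ U) (s : Sec M V), f V hV s = 0 → ∀ x ∈ V,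
      ∃ (W : X.Opens) (h : W ≤ V), x ∈ W ∧ res M h s = 0)
    (hsurj : ∀ (V : X.Opens) (hV : V ≤ U) (s : Sec N V), ∀ x ∈ V,
      ∃ (W : X.Opens) (h : W ≤ V), x ∈ W ∧ ∃ t : Sec M W, f W (h.trans hV) t = res N h s)
    {V : X.Opens} (hV : V ≤ U) : Function.Bijective (f V hV) := by
  have hinj' : ∀ (V : X.Opens) (hV : V ≤ U), Function.Injective (f V hV) := by
    intro V hV
    rw [injective_iff_map_eq_zero]
    intro s hs
    apply eq_of_locally
    intro x hx
    obtain ⟨W, h, hxW, hW⟩ := hinj V hV s hs x hx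
    exact ⟨W, h, hxW, by rw [hW, map_zero]⟩
  refine ⟨hinj' V hV, ?_⟩
  intro s
  choose W hW hxW t ht using fun x : V => hsurj V hV s x.1 x.2
  obtain ⟨t', ht'⟩ := exists_glue M W hW hxW t (by
    intro x y
    apply hinj' _ ((inf_le_left.trans (hW x)).trans hV)
    rw [hres _ _ ((hW x).trans hV) inf_le_left, hres _ _ ((hW y).trans hV) inf_le_right, ht, ht, res_res,
      res_res])
  refine ⟨t', ?_⟩
  apply eq_of_locally
  intro x hx
  refine ⟨W ⟨x, hx⟩, hW _, hxW _, ?_⟩
  rw [← hres _ _ hV, ht', ht]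

/-- Tensoring with a section. -/
noncomputable def tw (M : X.Modules) {N : X.Modules} {U : X.Opens} (t : Sec N U) :
    Sec M U →ₗ[Γ(X, U)] Sec (CohB1.tensorMod M N) U :=
  tau M N U ∘ₗ (TensorProduct.mk Γ(X, U) (Sec M U) (Sec N U)).flip t

theorem tw_apply (M : X.Modules) {N : X.Modules} {U : X.Opens} (t : Sec N U) (m : Sec M U) :
    tw M t m = tau M N U (m ⊗ₜ[Γ(X, U)] t) := rfl

theorem res_tw (M : X.Modules) {N : X.Modules} {U V : X.Opens} (h : V ≤ U) (t : Sec N U) (m : Sec M U) :
    res _ h (tw M t m) = tw M (res N h t) (res M h m) := by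
  rw [tw_apply, ← tau_tres, tres_tmul, tw_apply]

theorem tw_smul (M : X.Modules) {N : X.Modules} {U : X.Opens} (t : Sec N U) (a : Γ(X, U)) (m : Sec M U) :
    tw M (a • t) m = tw M t (a • m) := by
  rw [tw_apply, tw_apply, TensorProduct.smul_tmul]

/-- `m ↦ m ⊗ t` is bijective on sections when `t` is a local basis. -/
theorem twist_bijective (M : X.Modules) {N : X.Modules} {U : X.Opens} {t : Sec N U}
    (ht : IsLocBasis (fun _ : Unit => t)) : Function.Bijective (tw M t) := by
  have key := bijective_of_locally (M := M) (N := CohB1.tensorMod M N) (U := U)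
    (fun V hV => (tw M (res N hV t)).toAddMonoidHom) ?_ ?_ ?_ (le_refl U)
  · have h2 : res N (le_refl U) t = t := res_self N _ t
    rw [h2] at key
    exact key
  · intro V W hV h s
    change tw M (res N (h.trans hV) t) (res M h s) = res _ h (tw M (res N hV t) s)
    rw [res_tw, res_res]
  · intro V hV s hs x hx
    obtain ⟨W, h, hxW, hW⟩ := tau_locinj M N (s ⊗ₜ[Γ(X, V)] res N hV t) hs x hx
    refine ⟨W, h, hxW, ?_⟩
    rw [tres_tmul, res_res] at hW
    let b := ht.basis (h.trans hV)
    have h1 : (TensorProduct.equivFinsuppOfBasisRight (M := Sec M W) b)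
        (res M h s ⊗ₜ[Γ(X, W)] res N (h.trans hV) t) () = 0 := by
      rw [hW, LinearEquiv.map_zero, Finsupp.zero_apply]
    have h2 : res N (h.trans hV) t = b () := by
      rw [IsLocBasis.basis_apply]
    rw [h2, TensorProduct.equivFinsuppOfBasisRight_apply_tmul_apply, Module.Basis.repr_self,
      Finsupp.single_eq_same, _root_.one_smul] at h1
    exact h1
  · intro V hV s x hx
    obtain ⟨W, h, hxW, T, hT⟩ := tau_locsurj M N s x hx
    refine ⟨W, h, hxW, ?_⟩
    let b := ht.basis (h.trans hV)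
    have h2 : res N (h.trans hV) t = b () := by
      rw [IsLocBasis.basis_apply]
    refine ⟨(TensorProduct.equivFinsuppOfBasisRight (M := Sec M W) b) T (), ?_⟩
    change tw M (res N (h.trans hV) t) _ = _
    rw [tw_apply, ← hT]
    congr 1
    rw [h2]
    conv_rhs => rw [← (TensorProduct.equivFinsuppOfBasisRight (M := Sec M W) b).symm_apply_apply T]
    rw [TensorProduct.equivFinsuppOfBasisRight_symm_apply, Finsupp.sum_fintype _ _ (by simp)]
    simp

end K880.Glue
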