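import Groth.Agent.Sga67.TensorOps
import Groth.Agent.PerfA.QCohEpi
import Groth.Agent.PerfA.QCohSerre
import Groth.Agent.PerfA.PCohQCoh
import Mathlib.Algebra.Homology.Single
import Mathlib.Algebra.Homology.ComplexShape

/-!
# Cycles and homology of complexes of quasi-coherent modules on sections over affine opens
-/

set_option autoImplicit false

universe u

open CategoryTheory CategoryTheory.Limits AlgebraicGeometry Opposite TopologicalSpace
open Groth.Agent.Sga67.Sec Groth.Agent.Sga67.LocBasis

namespace K880.Homol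

variable {X : Scheme.{u}}

theorem exists_of_kernel {M N : X.Modules} (f : M ⟶ N) {U : X.Opens} (m : Sec M U) (h : appS f U m = 0) :
    ∃ t : Sec (kernel f) U, appS (kernel.ι f) U t = m :=
  exists_of_appS_eq_zero (S := ShortComplex.mk (kernel.ι f) f (kernel.condition _))
    (ShortComplex.exact_kernel _) m h

/-- Exactness on sections over affine opens. -/
theorem exists_of_exact {S : ShortComplex X.Modules} (hS : S.Exact) (h₁ : Coh.IsQCoh S.X₁)
    (h₂ : Coh.IsQCoh S.X₂) (h₃ : Coh.IsQCoh S.X₃) {U : X.Opens} (hU : IsAffineOpen U) (s : Sec S.X₂ U)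
    (hs : appS S.g U s = 0) : ∃ t : Sec S.X₁ U, appS S.f U t = s := by
  obtain ⟨t, rfl⟩ := exists_of_kernel S.g s hs
  have : Epi (kernel.lift S.g S.f S.zero) := hS.epi_kernelLift
  have hk : Coh.IsQCoh (kernel S.g) := Groth.Agent.PerfA.QCohSerre.isQCoh_kernel _ h₂ h₃
  obtain ⟨r, hr⟩ := Groth.Agent.PerfA.QCohEpi.app_surjective_of_epi (kernel.lift S.g S.f S.zero) hU t
  refine ⟨r, ?_⟩
  have h1 : appS (kernel.lift S.g S.f S.zero) U r = t := hr
  rw [← h1, ← appS_comp, kernel.lift_ι]

section

variable (K : ChainComplex X.Modules ℕ)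

theorem isQCoh_cycles (hK : ∀ p, Coh.IsQCoh (K.X p)) (q : ℕ) : Coh.IsQCoh (K.cycles q) :=
  Groth.Agent.PerfA.QCohSerre.isQCoh_of_iso ((K.sc q).cyclesIsoKernel).symm
    (Groth.Agent.PerfA.QCohSerre.isQCoh_kernel _ (hK _) (hK _))

theorem isQCoh_homology (hK : ∀ p, Coh.IsQCoh (K.X p)) (q : ℕ) : Coh.IsQCoh (K.homology q) :=
  Groth.Agent.PerfA.PCohQCoh.isQCoh_homology (K.sc q) (hK _) (hK _) (hK _)

theorem iCycles_injective (q : ℕ) (U : X.Opens) : Function.Injective (appS (K.iCycles q) U) :=
  injective_of_mono _ _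

theorem d_iCycles (q j : ℕ) (U : X.Opens) (z : Sec (K.cycles q) U) :
    appS (K.d q j) U (appS (K.iCycles q) U z) = 0 := by
  rw [← appS_comp, K.iCycles_d]
  rfl

theorem exists_cycle (q j : ℕ) (hj : (ComplexShape.down ℕ).next q = j) {U : X.Opens} (k : Sec (K.X q) U)
    (h : appS (K.d q j) U k = 0) : ∃ z : Sec (K.cycles q) U, appS (K.iCycles q) U z = k := by
  obtain ⟨t, rfl⟩ := exists_of_kernel (K.d q j) k h
  refine ⟨appS (K.liftCycles (kernel.ι (K.d q j)) j hj (kernel.condition _)) U t, ?_⟩
  rw [← appS_comp, K.liftCycles_i]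

theorem π_surjective (hK : ∀ p, Coh.IsQCoh (K.X p)) (q : ℕ) {U : X.Opens} (hU : IsAffineOpen U) :
    Function.Surjective (appS (K.homologyπ q) U) := by
  have := isQCoh_cycles K hK q
  have := isQCoh_homology K hK q
  exact Groth.Agent.PerfA.QCohEpi.app_surjective_of_epi (K.homologyπ q) hU

theorem π_eq_zero_iff (hK : ∀ p, Coh.IsQCoh (K.X p)) (q : ℕ) {U : X.Opens} (hU : IsAffineOpen U)
    (z : Sec (K.cycles q) U) : appS (K.homologyπ q) U z = 0 ↔
      ∃ k : Sec (K.X (q + 1)) U, appS (K.d (q + 1) q) U k = appS (K.iCycles q) U z := by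
  constructor
  · intro h
    have hc := K.homologyIsCokernel (q + 1) q (by simp)
    have hex : (ShortComplex.mk (K.toCycles (q + 1) q) (K.homologyπ q)
        (K.toCycles_comp_homologyπ (q + 1) q)).Exact := ShortComplex.exact_of_g_is_cokernel _ hc
    obtain ⟨t, ht⟩ := exists_of_exact hex (hK _) (isQCoh_cycles K hK q) (isQCoh_homology K hK q) hU z h
    refine ⟨t, ?_⟩
    rw [← ht]
    change _ = appS (K.iCycles q) U (appS (K.toCycles (q + 1) q) U t)
    rw [← appS_comp, K.toCycles_i]
  · rintro ⟨k, hk⟩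
    have h1 : z = appS (K.toCycles (q + 1) q) U k := by
      apply iCycles_injective K q U
      rw [← hk, ← appS_comp, K.toCycles_i]
    rw [h1, ← appS_comp, K.toCycles_comp_homologyπ]
    rfl

/-- A section of a fibre product with vanishing components vanishes. -/
theorem pullback_ext {A B C : X.Modules} (f : A ⟶ C) (g : B ⟶ C) {U : X.Opens}
    (p : Sec (pullback f g) U) (h1 : appS (pullback.fst f g) U p = 0)
    (h2 : appS (pullback.snd f g) U p = 0) : p = 0 := by
  let m : pullback f g ⟶ A ⊞ B := biprod.lift (pullback.fst f g) (pullback.snd f g)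
  have hm : Mono m := by
    constructor
    intro Z a b hab
    apply pullback.hom_ext
    · have := congrArg (fun t => t ≫ biprod.fst) hab
      simpa [m] using this
    · have := congrArg (fun t => t ≫ biprod.snd) hab
      simpa [m] using this
  apply injective_of_mono m U
  rw [map_zero]
  have h3 : m = pullback.fst f g ≫ biprod.inl + pullback.snd f g ≫ biprod.inr := by
    simp only [m, biprod.lift_eq]
  rw [h3, appS_add, appS_comp, appS_comp, h1, h2, map_zero, map_zero, add_zero]

end

end K880.Homol
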