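import Groth.Agent.KoszSh.K880.Coprod
import Groth.Agent.KoszSh.K880.Acyclic

/-!
# Direct sums of modules of ideal sheaves

For `I : Fin n → X.IdealSheafData`: `E I = ⨁ O(-Y_i)`, `s I : E I ⟶ O_X` the sum of the inclusions, and
`co I i U : Γ(U, E I) → Γ(U, O_X)` the coordinates.

* `exists_of_co`, `co_ext`: on affine opens the sections of `E I` are the families of elements of the ideals;
* `lin_eq`: the cosection is the sum of the coordinates;
* `isLocBasis_gen`: local bases given by generators of the ideals;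
* `IsScale`, `exists_scale`: multiplication by a generator `x` of `D` as an isomorphism from the sections of
  `E I` to those of `E I'`, `I' i = I i * D`.
-/

set_option autoImplicit false

universe u

open CategoryTheory CategoryTheory.Limits AlgebraicGeometry Opposite TopologicalSpace
open Groth.Agent.Sga67.Sec Groth.Agent.Sga67.LocBasis Groth.Agent.Sga67.ExtSheaf
open Groth.Agent.Krr.H502.KosSheaf
open Groth.Agent.Dix.IdealModCartier (val val_injective val_mem exists_val_eq GenOn genOn_of_affine)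

namespace K880.IdealSum

variable {X : Scheme.{u}} {n : ℕ}

/-- `⨁ O(-Y_i)`. -/
noncomputable abbrev E (I : Fin n → X.IdealSheafData) : X.Modules := ∐ fun i => ClSub.idealMod (I i)

/-- The sum of the inclusions. -/
noncomputable abbrev s (I : Fin n → X.IdealSheafData) : E I ⟶ Coh.structureModule X :=
  Limits.Sigma.desc fun i => ClSub.idealModι (I i)

/-- The coordinates. -/
noncomputable def co (I : Fin n → X.IdealSheafData) (i : Fin n) (U : X.Opens) :
    Sec (E I) U →ₗ[Γ(X, U)] Γ(X, U) :=
  lin (Sigma.π (fun i => ClSub.idealMod (I i)) i ≫ ClSub.idealModι (I i)) U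

variable (I : Fin n → X.IdealSheafData)

theorem co_res (i : Fin n) {U V : X.Opens} (h : V ≤ U) (e : Sec (E I) U) :
    co I i V (res _ h e) = resO X h (co I i U e) := lin_res _ h e

theorem co_ext {U : X.Opens} {e e' : Sec (E I) U} (h : ∀ i, co I i U e = co I i U e') : e = e' := by
  rw [Coprod.eq_sum (fun i => ClSub.idealMod (I i)) e, Coprod.eq_sum (fun i => ClSub.idealMod (I i)) e']
  refine Finset.sum_congr rfl fun i _ => ?_
  congr 1
  exact val_injective (I i) (h i)

theorem co_mem (i : Fin n) (U : X.affineOpens) (e : Sec (E I) U.1) : co I i U.1 e ∈ (I i).ideal U :=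
  val_mem (I i) U _

theorem exists_of_co (U : X.affineOpens) (a : Fin n → Γ(X, U.1)) (ha : ∀ i, a i ∈ (I i).ideal U) :
    ∃ e : Sec (E I) U.1, ∀ i, co I i U.1 e = a i := by
  choose t ht using fun i => exists_val_eq (I i) U (ha i)
  refine ⟨∑ i, appS (Sigma.ι (fun i => ClSub.idealMod (I i)) i) U.1 (t i), fun i => ?_⟩
  change toO (appS (ClSub.idealModι (I i)) U.1 (appS (Sigma.π (fun i => ClSub.idealMod (I i)) i) U.1 _)) = a i
  rw [Coprod.appS_π_sum (fun i => ClSub.idealMod (I i)) t i]
  exact ht i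

theorem toO_sum {U : X.Opens} {κ : Type*} (S : Finset κ) (f : κ → Sec (Coh.structureModule X) U) :
    toO (∑ i ∈ S, f i) = ∑ i ∈ S, toO (f i) := by
  classical
  induction S using Finset.induction_on with
  | empty => simp [toO_zero]
  | insert a S ha ih => rw [Finset.sum_insert ha, Finset.sum_insert ha, toO_add, ih]

theorem lin_eq (U : X.Opens) (e : Sec (E I) U) : lin (s I) U e = ∑ i, co I i U e := by
  conv_lhs => rw [Coprod.eq_sum (fun i => ClSub.idealMod (I i)) e]
  rw [lin_apply, map_sum, toO_sum]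
  refine Finset.sum_congr rfl fun i _ => ?_
  rw [← appS_comp, Sigma.ι_desc]
  rfl

theorem co_ι_same (i : Fin n) {U : X.Opens} (t : Sec (ClSub.idealMod (I i)) U) :
    co I i U (appS (Sigma.ι (fun i => ClSub.idealMod (I i)) i) U t) = val (I i) t := by
  change toO (appS (ClSub.idealModι (I i)) U (appS (Sigma.π (fun i => ClSub.idealMod (I i)) i) U _)) = _
  rw [Coprod.appS_π_ι_same (fun i => ClSub.idealMod (I i))]
  rfl

theorem co_ι_ne {i j : Fin n} (h : i ≠ j) {U : X.Opens} (t : Sec (ClSub.idealMod (I i)) U) :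
    co I j U (appS (Sigma.ι (fun i => ClSub.idealMod (I i)) i) U t) = 0 := by
  change toO (appS (ClSub.idealModι (I j)) U (appS (Sigma.π (fun i => ClSub.idealMod (I i)) j) U _)) = _
  rw [Coprod.appS_π_ι_ne (fun i => ClSub.idealMod (I i)) h, map_zero]
  rfl

/-- Local bases from generators. -/
theorem isLocBasis_gen {U : X.affineOpens} (y : Fin n → Γ(X, U.1))
    (hy : ∀ i, y i ∈ nonZeroDivisors Γ(X, U.1)) (h : ∀ i, (I i).ideal U = Ideal.span {y i}) :
    ∃ b : Fin n → Sec (E I) U.1, IsLocBasis b ∧ (∀ i, co I i U.1 (b i) = y i) ∧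
      (∀ i j, i ≠ j → co I j U.1 (b i) = 0) := by
  choose t ht using fun i => Coprod.exists_lift (h i)
  refine ⟨fun i => appS (Sigma.ι (fun i => ClSub.idealMod (I i)) i) U.1 (t i),
    Coprod.isLocBasis_coprod (fun i => ClSub.idealMod (I i)) (fun i => ?_), fun i => ?_, fun i j hij => ?_⟩
  · exact Coprod.isLocBasis_of_genOn ((ht i).symm ▸ genOn_of_affine (hy i) (h i))
  · exact (co_ι_same I i _).trans (ht i)
  · exact co_ι_ne I hij _

/-- Effective Cartier ideals are principal over small affine opens. -/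
theorem exists_gen (hI : ∀ i, BlowUp.IsEffCartierIdeal (I i)) (x : X) (V : X.Opens) (hx : x ∈ V) :
    ∃ U : X.affineOpens, U.1 ≤ V ∧ x ∈ U.1 ∧ ∃ y : Fin n → Γ(X, U.1),
      (∀ i, y i ∈ nonZeroDivisors Γ(X, U.1)) ∧ ∀ i, (I i).ideal U = Ideal.span {y i} := by
  choose W a hxW ha using fun i => Groth.Agent.Dix.IdealModCartier.exists_genOn (hI i) x
  obtain ⟨W', hxW', hW'V, hW'⟩ := exists_common_nbhd V hx (fun i => (W i).1) hxW
  obtain ⟨_, ⟨U, rfl⟩, hxU, hU⟩ := Opens.isBasis_iff_nbhd.mp (affineBasis X) hxW'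
  exact ⟨U, hU.trans hW'V, hxU, fun i => resO X (hU.trans (hW' i)) (a i),
    fun i => (ha i U (hU.trans (hW' i))).1, fun i => (ha i U (hU.trans (hW' i))).2⟩

/-- The module `E I` is finite locally free when the ideals are effective Cartier. -/
theorem isFinLocFree_E (hI : ∀ i, BlowUp.IsEffCartierIdeal (I i)) : FlatMod.IsFinLocFree (E I) := by
  apply isFinLocFree_of_exists
  intro x
  obtain ⟨U, -, hxU, y, hy, hy'⟩ := exists_gen I hI x ⊤ trivial
  obtain ⟨b, hb, -⟩ := isLocBasis_gen I y hy hy'
  exact ⟨U.1, Fin n, inferInstance, b, hxU, hb⟩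

section Scale

variable (I' : Fin n → X.IdealSheafData)

/-- `m` is multiplication by `x`. -/
def IsScale {U : X.Opens} (x : Γ(X, U)) (m : Sec (E I) U ≃ₗ[Γ(X, U)] Sec (E I') U) : Prop :=
  ∀ e i, co I' i U (m e) = x * co I i U e

variable {I I'}

theorem IsScale.res {U V : X.Opens} (h : V ≤ U) {x : Γ(X, U)} {m : Sec (E I) U ≃ₗ[Γ(X, U)] Sec (E I') U}
    (hm : IsScale I I' x m) {m' : Sec (E I) V ≃ₗ[Γ(X, V)] Sec (E I') V} (hm' : IsScale I I' (resO X h x) m')
    (e : Sec (E I) U) : Groth.Agent.Sga67.Sec.res _ h (m e) = m' (Groth.Agent.Sga67.Sec.res _ h e) := by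
  apply co_ext
  intro i
  rw [co_res, hm, hm', co_res, map_mul]

theorem IsScale.smul {U : X.Opens} {x u : Γ(X, U)} {m m' : Sec (E I) U ≃ₗ[Γ(X, U)] Sec (E I') U}
    (hm : IsScale I I' x m) (hm' : IsScale I I' (u * x) m') (e : Sec (E I) U) : m' e = u • m e := by
  apply co_ext
  intro i
  rw [hm', map_smul, hm, smul_eq_mul, mul_assoc]

theorem IsScale.lin {U : X.Opens} {x : Γ(X, U)} {m : Sec (E I) U ≃ₗ[Γ(X, U)] Sec (E I') U}
    (hm : IsScale I I' x m) (e : Sec (E I) U) :
    lin (s I') U (m e) = x * lin (s I) U e := by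
  rw [lin_eq, lin_eq, Finset.mul_sum]
  exact Finset.sum_congr rfl fun i _ => hm e i

theorem exists_scale {U : X.affineOpens} {x : Γ(X, U.1)} (hx : x ∈ nonZeroDivisors Γ(X, U.1))
    (h : ∀ i, (I' i).ideal U = Ideal.span {x} * (I i).ideal U) : ∃ m, IsScale I I' x m := by
  have h1 : ∀ e : Sec (E I) U.1, ∃ e' : Sec (E I') U.1, ∀ i, co I' i U.1 e' = x * co I i U.1 e := by
    intro e
    apply exists_of_co
    intro i
    rw [h i]
    exact Ideal.mul_mem_mul (Ideal.mem_span_singleton_self x) (co_mem I i U e)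
  choose f hf using h1
  let f' : Sec (E I) U.1 →ₗ[Γ(X, U.1)] Sec (E I') U.1 :=
    { toFun := f
      map_add' := fun a b => by
        apply co_ext
        intro i
        rw [hf, map_add, map_add, hf, hf, mul_add]
      map_smul' := fun r a => by
        apply co_ext
        intro i
        rw [hf, map_smul, map_smul, hf, smul_eq_mul, smul_eq_mul, RingHom.id_apply, mul_left_comm] }
  have hbij : Function.Bijective f' := by
    constructor
    · intro a b hab
      apply co_ext
      intro i
      have h2 : co I' i U.1 (f a) = co I' i U.1 (f b) := congrArg (co I' i U.1) hab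
      rw [hf, hf] at h2
      exact (mul_cancel_left_mem_nonZeroDivisors hx).1 h2
    · intro e'
      have h3 : ∀ i, ∃ c ∈ (I i).ideal U, x * c = co I' i U.1 e' := by
        intro i
        have := co_mem I' i U e'
        rw [h i, Ideal.mem_span_singleton_mul] at this
        exact this
      choose c hc hc' using h3
      obtain ⟨e, he⟩ := exists_of_co I U c hc
      refine ⟨e, ?_⟩
      apply co_ext
      intro i
      change co I' i U.1 (f e) = _
      rw [hf, he, hc']
  exact ⟨LinearEquiv.ofBijective f' hbij, fun e i => hf e i⟩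

end Scale

end K880.IdealSum
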