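import Groth.Agent.KoszSh.K880.Scale

/-!
# Kernel of the contraction by a linear form with value one

`θ : E → R` with `θ b = 1`, `ι : F → E` with left inverse `ρ` and `ι (ρ e) = e - θ e • b`.  Then
`ω = Λ(ι ρ) ω + b ∧ (θ ⌟ ω)`, the kernel of `θ ⌟` is the image of `Λ F`, and it is the image of `θ ⌟`.
-/

set_option autoImplicit false

open Groth.Agent.Sga67.SymKoszulAlg exteriorPower

namespace K880.KosKer

variable {R : Type*} [CommRing R] {E F : Type*} [AddCommGroup E] [Module R E] [AddCommGroup F] [Module R F]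
  (θ : E →ₗ[R] R) (b : E) (ι : F →ₗ[R] E) (ρ : E →ₗ[R] F)

theorem map_crt {M N : Type*} [AddCommGroup M] [Module R M] [AddCommGroup N] [Module R N] (f : M →ₗ[R] N)
    (m : M) (a : ℕ) (ω : ⋀[R]^a M) :
    exteriorPower.map (a + 1) f (crt m a ω) = crt (f m) a (exteriorPower.map a f ω) := by
  have h : (exteriorPower.map (a + 1) f) ∘ₗ (crt m a) = (crt (f m) a) ∘ₗ (exteriorPower.map a f) := by
    refine hom_ext' fun v => ?_
    rw [LinearMap.comp_apply, crt_ιMulti, exteriorPower.map_apply_ιMulti, LinearMap.comp_apply,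
      exteriorPower.map_apply_ιMulti, crt_ιMulti]
    congr 1
    funext i
    refine Fin.cases ?_ (fun j => ?_) i
    · rfl
    · rfl
  exact LinearMap.congr_fun h ω

theorem map_map_id (hρ : ∀ f, ρ (ι f) = f) (q : ℕ) (ω : ⋀[R]^q F) :
    exteriorPower.map q ρ (exteriorPower.map q ι ω) = ω := by
  have h : (exteriorPower.map q ρ) ∘ₗ (exteriorPower.map q ι) = LinearMap.id := by
    refine hom_ext' fun v => ?_
    rw [LinearMap.comp_apply, exteriorPower.map_apply_ιMulti, exteriorPower.map_apply_ιMulti,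
      LinearMap.id_apply]
    congr 1
    funext i
    exact hρ _
  exact LinearMap.congr_fun h ω

theorem map_injective (hρ : ∀ f, ρ (ι f) = f) (q : ℕ) : Function.Injective (exteriorPower.map q ι) :=
  Function.LeftInverse.injective (map_map_id ι ρ hρ q)

theorem crt_sub (m m' : E) (a : ℕ) (x : ⋀[R]^a E) : crt (m - m') a x = crt m a x - crt m' a x := by
  have h : crt (m - m') a x + crt m' a x = crt m a x := by
    rw [← crt_add, sub_add_cancel]
  exact eq_sub_of_add_eq h

theorem decomp_step (e : E) (q : ℕ) (w Pw : ⋀[R]^(q + 1) E) (h : w = Pw + crt b q (ctr θ q w)) :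
    crt e (q + 1) w = crt (e - θ e • b) (q + 1) Pw + crt b (q + 1) (ctr θ (q + 1) (crt e (q + 1) w)) := by
  have h1 : Pw = w - crt b q (ctr θ q w) := eq_sub_of_add_eq h.symm
  rw [h1, ctr_crt, crt_sub, crt_smul, map_sub, map_sub, map_sub, crt_crt_self, map_smul, smul_sub,
    smul_zero, crt_crt e b]
  abel

theorem decomp (hιρ : ∀ e, ι (ρ e) = e - θ e • b) (q : ℕ) (ω : ⋀[R]^(q + 1) E) :
    ω = exteriorPower.map (q + 1) (ι ∘ₗ ρ) ω + crt b q (ctr θ q ω) := by
  induction q with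
  | zero =>
    have h : (LinearMap.id : ⋀[R]^(0 + 1) E →ₗ[R] ⋀[R]^(0 + 1) E) =
        exteriorPower.map (0 + 1) (ι ∘ₗ ρ) + (crt b 0) ∘ₗ (ctr θ 0) := by
      refine hom_ext' fun v => ?_
      rw [ιMulti_eq_crt, LinearMap.id_apply, LinearMap.add_apply, map_crt, LinearMap.comp_apply (crt b 0),
        ctr_crt_zero, LinearMap.comp_apply, hιρ, map_smul, crt_sub, crt_smul]
      have h2 : exteriorPower.map 0 (ι ∘ₗ ρ) (ιMulti R 0 (Fin.tail v)) = ιMulti R 0 (Fin.tail v) := by
        rw [exteriorPower.map_apply_ιMulti]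
        congr 1
        funext i
        exact i.elim0
      rw [h2, sub_add_cancel]
    exact LinearMap.congr_fun h ω
  | succ q ih =>
    have h : (LinearMap.id : ⋀[R]^(q + 1 + 1) E →ₗ[R] ⋀[R]^(q + 1 + 1) E) =
        exteriorPower.map (q + 1 + 1) (ι ∘ₗ ρ) + (crt b (q + 1)) ∘ₗ (ctr θ (q + 1)) := by
      refine hom_ext' fun v => ?_
      rw [ιMulti_eq_crt, LinearMap.id_apply, LinearMap.add_apply, map_crt, LinearMap.comp_apply (crt b (q + 1)),
        LinearMap.comp_apply, hιρ]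
      exact decomp_step θ b (v 0) q _ _ (ih _)
    exact LinearMap.congr_fun h ω

/-- The kernel of the contraction is the image of the exterior power of the kernel. -/
theorem mem_range_of_ctr_eq_zero (hιρ : ∀ e, ι (ρ e) = e - θ e • b) (q : ℕ) (ω : ⋀[R]^(q + 1) E)
    (h : ctr θ q ω = 0) : ∃ η, exteriorPower.map (q + 1) ι η = ω := by
  refine ⟨exteriorPower.map (q + 1) ρ ω, ?_⟩
  have h1 := decomp θ b ι ρ hιρ q ω
  rw [h, map_zero, add_zero] at h1
  conv_rhs => rw [h1]
  have h2 : (exteriorPower.map (q + 1) ι) ∘ₗ (exteriorPower.map (q + 1) ρ) =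
      exteriorPower.map (q + 1) (ι ∘ₗ ρ) := (exteriorPower.map_comp _ _).symm
  exact LinearMap.congr_fun h2 ω

theorem mem_range_zero (ω : ⋀[R]^0 E) : ∃ η : ⋀[R]^0 F, exteriorPower.map 0 ι η = ω := by
  have hω : ω ∈ Submodule.span R (Set.range (ιMulti R 0 (M := E))) := by
    rw [exteriorPower.ιMulti_span]; trivial
  induction hω using Submodule.span_induction with
  | mem x hx =>
    obtain ⟨v, rfl⟩ := hx
    refine ⟨ιMulti R 0 (fun i => i.elim0), ?_⟩
    rw [exteriorPower.map_apply_ιMulti]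
    congr 1
    funext i
    exact i.elim0
  | zero => exact ⟨0, map_zero _⟩
  | add x y _ _ hx hy =>
    obtain ⟨a, rfl⟩ := hx
    obtain ⟨b, rfl⟩ := hy
    exact ⟨a + b, map_add _ _ _⟩
  | smul r x _ hx =>
    obtain ⟨a, rfl⟩ := hx
    exact ⟨r • a, map_smul _ _ _⟩

/-- Exactness of the contraction by a form with value one. -/
theorem exists_ctr_eq (h1 : θ b = 1) (q : ℕ) (ω : ⋀[R]^(q + 1) E) (h : ctr θ q ω = 0) :
    ∃ η, ctr θ (q + 1) η = ω := by
  refine ⟨crt b (q + 1) ω, ?_⟩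
  rw [ctr_crt, h1, h, map_zero, sub_zero, _root_.one_smul]

theorem exists_ctr_eq_zero (h1 : θ b = 1) (ω : ⋀[R]^0 E) : ∃ η, ctr θ 0 η = ω := by
  refine ⟨crt b 0 ω, ?_⟩
  rw [ctr_crt_zero, h1, _root_.one_smul]

theorem ctr_map_zero (h : ∀ f, θ (ι f) = 0) (q : ℕ) (η : ⋀[R]^(q + 1) F) :
    ctr θ q (exteriorPower.map (q + 1) ι η) = 0 := by
  have h1 := K880.Scale.ctr_map (0 : F →ₗ[R] R) θ ι 0 (fun m => by rw [h m, zero_mul]) q η
  rw [h1, zero_smul]

/-- Contraction with a multiple of a form. -/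
theorem ctr_smul_form (φ θ : E →ₗ[R] R) (y : R) (h : ∀ e, φ e = y * θ e) (q : ℕ) (ω : ⋀[R]^(q + 1) E) :
    ctr φ q ω = y • ctr θ q ω := by
  have h1 := K880.Scale.ctr_map θ φ LinearMap.id y h q ω
  rw [exteriorPower.map_id, exteriorPower.map_id] at h1
  exact h1

end K880.KosKer
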