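import Groth.Agent.KoszSh.K880.KosKer

/-!
# Regularity of an element on Koszul homology

`XReg θ x`: `x` acts injectively on the homology of the contraction complex of `θ : E → R`.  It only depends on
the ideal generated by the values of `θ` on a basis (`xReg_of_span_eq`) and holds for a weakly regular sequence
`f` and `x` regular modulo `f` (`xReg_of_isWeaklyRegular`).
-/

set_option autoImplicit false

open Groth.Agent.Sga67.SymKoszulAlg exteriorPower

namespace K880.KosReg

section

variable {R : Type*} [CommRing R] {E F : Type*} [AddCommGroup E] [Module R E] [AddCommGroup F] [Module R F]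

/-- `x` acts injectively on the homology of the contraction complex. -/
def XReg (θ : E →ₗ[R] R) (x : R) : Prop :=
  (∀ ω : ⋀[R]^0 E, (∃ η, ctr θ 0 η = x • ω) → ∃ η, ctr θ 0 η = ω) ∧
  ∀ (a : ℕ) (ω : ⋀[R]^(a + 1) E), ctr θ a ω = 0 → (∃ η, ctr θ (a + 1) η = x • ω) →
    ∃ η, ctr θ (a + 1) η = ω

theorem ctr_add_form (φ ψ : E →ₗ[R] R) (q : ℕ) (ω : ⋀[R]^(q + 1) E) :
    ctr (φ + ψ) q ω = ctr φ q ω + ctr ψ q ω := by
  have h : ctr (φ + ψ) q = ctr φ q + ctr ψ q := by
    refine hom_ext' fun v => ?_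
    rw [ctr_ιMulti, LinearMap.add_apply, ctr_ιMulti, ctr_ιMulti, ← Finset.sum_add_distrib]
    refine Finset.sum_congr rfl fun i _ => ?_
    rw [LinearMap.add_apply, add_smul, smul_add]
  exact LinearMap.congr_fun h ω

theorem ctr_anticomm (φ ψ : E →ₗ[R] R) (q : ℕ) (ω : ⋀[R]^(q + 2) E) :
    ctr φ q (ctr ψ (q + 1) ω) = - ctr ψ q (ctr φ (q + 1) ω) := by
  have h := Groth.Agent.Krr.H502.KosExt.ctr_ctr (φ + ψ) q ω
  rw [ctr_add_form, ctr_add_form, map_add, map_add, Groth.Agent.Krr.H502.KosExt.ctr_ctr,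
    Groth.Agent.Krr.H502.KosExt.ctr_ctr, zero_add, add_zero] at h
  exact eq_neg_of_add_eq_zero_left h

theorem ctr_map' (θ : F →ₗ[R] R) (f : E →ₗ[R] F) (q : ℕ) (ω : ⋀[R]^(q + 1) E) :
    ctr θ q (exteriorPower.map (q + 1) f ω) = exteriorPower.map q f (ctr (θ ∘ₗ f) q ω) := by
  have h := K880.Scale.ctr_map (θ ∘ₗ f) θ f 1 (fun m => by rw [one_mul]; rfl) q ω
  rw [h, _root_.one_smul]

/-- Descent along a retraction. -/
theorem XReg.comp {θ : E →ₗ[R] R} {x : R} (ι : E →ₗ[R] F) (ρ : F →ₗ[R] E) (hρ : ∀ v, ρ (ι v) = v)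
    (h : XReg (θ ∘ₗ ρ) x) : XReg θ x := by
  have hθ : (θ ∘ₗ ρ) ∘ₗ ι = θ := LinearMap.ext fun v => congrArg θ (hρ v)
  constructor
  · rintro ω ⟨η, hη⟩
    obtain ⟨ζ, hζ⟩ := h.1 (exteriorPower.map 0 ι ω) ⟨exteriorPower.map 1 ι η, by
      rw [ctr_map', hθ, hη, map_smul]⟩
    refine ⟨exteriorPower.map 1 ρ ζ, ?_⟩
    rw [ctr_map', hζ, KosKer.map_map_id ι ρ hρ]
  · rintro a ω h0 ⟨η, hη⟩
    obtain ⟨ζ, hζ⟩ := h.2 a (exteriorPower.map (a + 1) ι ω) (by rw [ctr_map', hθ, h0, map_zero])
      ⟨exteriorPower.map (a + 1 + 1) ι η, by rw [ctr_map', hθ, hη, map_smul]⟩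
    refine ⟨exteriorPower.map (a + 1 + 1) ρ ζ, ?_⟩
    rw [ctr_map', hζ, KosKer.map_map_id ι ρ hρ]

theorem XReg.of_equiv {θ : E →ₗ[R] R} {x : R} (m : F ≃ₗ[R] E) (h : XReg (θ ∘ₗ m.toLinearMap) x) : XReg θ x :=
  XReg.comp m.symm.toLinearMap m.toLinearMap (fun v => by simp) h

theorem crt_proj (ι : F →ₗ[R] E) (ρ : E →ₗ[R] F) (ε : E →ₗ[R] R) (e : E)
    (hι : ∀ w, ι (ρ w) = w - ε w • e) (a : ℕ) (β : ⋀[R]^a E) :
    crt e a (exteriorPower.map a ι (exteriorPower.map a ρ β)) = crt e a β := by
  have h2 : exteriorPower.map a ι (exteriorPower.map a ρ β) = exteriorPower.map a (ι ∘ₗ ρ) β :=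
    (LinearMap.congr_fun (exteriorPower.map_comp ρ ι) β).symm
  rw [h2]
  rcases a with _ | a
  · congr 1
    have h3 : exteriorPower.map 0 (ι ∘ₗ ρ) = LinearMap.id := by
      refine hom_ext' fun v => ?_
      rw [exteriorPower.map_apply_ιMulti, LinearMap.id_apply]
      congr 1
      funext i
      exact i.elim0
    rw [h3]
    rfl
  · have h := KosKer.decomp ε e ι ρ hι a β
    conv_rhs => rw [h]
    rw [map_add, crt_crt_self, add_zero]

/-- Adding a summand on which the form vanishes. -/
theorem XReg.of_split {θ : E →ₗ[R] R} {x : R} (ι : F →ₗ[R] E) (ρ : E →ₗ[R] F) (ε : E →ₗ[R] R) (e : E)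
    (hι : ∀ w, ι (ρ w) = w - ε w • e) (he : θ e = 0) (h : XReg (θ ∘ₗ ι) x) :
    XReg θ x := by
  have hθ : (θ ∘ₗ ι) ∘ₗ ρ = θ := by
    ext w
    rw [LinearMap.comp_apply, LinearMap.comp_apply, hι, map_sub, map_smul, he, smul_zero, sub_zero]
  have hA : ∀ (a : ℕ) (ω : ⋀[R]^(a + 1) E), ctr (θ ∘ₗ ι) a (exteriorPower.map (a + 1) ρ ω) =
      exteriorPower.map a ρ (ctr θ a ω) := by
    intro a ω
    rw [ctr_map', hθ]
  have hmm : ∀ (a : ℕ) (ω : ⋀[R]^a E), exteriorPower.map a ι (exteriorPower.map a ρ ω) =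
      exteriorPower.map a (ι ∘ₗ ρ) ω := fun a ω =>
    (LinearMap.congr_fun (exteriorPower.map_comp ρ ι) ω).symm
  constructor
  · rintro ω ⟨η, hη⟩
    obtain ⟨ζ, hζ⟩ := h.1 (exteriorPower.map 0 ρ ω) ⟨exteriorPower.map 1 ρ η, by
      rw [hA, hη, map_smul]⟩
    refine ⟨exteriorPower.map 1 ι ζ, ?_⟩
    rw [ctr_map', hζ, hmm]
    have h3 : exteriorPower.map 0 (ι ∘ₗ ρ) = LinearMap.id := by
      refine hom_ext' fun v => ?_
      rw [exteriorPower.map_apply_ιMulti, LinearMap.id_apply]
      congr 1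
      funext i
      exact i.elim0
    rw [h3]
    rfl
  · rintro a ω h0 ⟨η, hη⟩
    obtain ⟨A₁, hA₁⟩ := h.2 a (exteriorPower.map (a + 1) ρ ω) (by rw [hA, h0, map_zero])
      ⟨exteriorPower.map (a + 1 + 1) ρ η, by rw [hA, hη, map_smul]⟩
    -- the second component
    have hB : ∃ B₁, ctr (θ ∘ₗ ι) a B₁ = exteriorPower.map a ρ (ctr ε a ω) := by
      rcases a with _ | a
      · refine h.1 _ ⟨- exteriorPower.map 1 ρ (ctr ε 1 η), ?_⟩
        rw [map_neg, hA, ctr_anticomm, hη, map_neg, neg_neg, map_smul, map_smul]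
      · refine h.2 a _ ?_ ⟨- exteriorPower.map (a + 1 + 1) ρ (ctr ε (a + 1 + 1) η), ?_⟩
        · rw [hA, ctr_anticomm, h0, map_zero, neg_zero, map_zero]
        · rw [map_neg, hA, ctr_anticomm, hη, map_neg, neg_neg, map_smul, map_smul]
    obtain ⟨B₁, hB₁⟩ := hB
    refine ⟨exteriorPower.map (a + 2) ι A₁ - crt e (a + 1) (exteriorPower.map (a + 1) ι B₁), ?_⟩
    rw [map_sub, ctr_map', ctr_crt, he, zero_smul, zero_sub, sub_neg_eq_add, ctr_map', hA₁, hB₁, hmm, crt_proj ι ρ ε e hι]
    exact (KosKer.decomp ε e ι ρ hι a ω).symm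

end

section Seq

variable {R : Type*} [CommRing R]

/-- The form with given values on the standard basis. -/
noncomputable def frm {κ : Type*} [Fintype κ] (y : κ → R) : (κ → R) →ₗ[R] R := Fintype.linearCombination R y

theorem frm_apply {κ : Type*} [Fintype κ] (y v : κ → R) : frm y v = ∑ i, v i * y i := by
  rw [frm, Fintype.linearCombination_apply]
  rfl

theorem xReg_reindex {κ κ' : Type*} [Fintype κ] [Fintype κ'] (σ : κ ≃ κ') (y : κ' → R) (x : R)
    (h : XReg (frm fun i => y (σ i)) x) : XReg (frm y) x := by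
  apply XReg.of_equiv (LinearEquiv.funCongrLeft R R σ.symm)
  have h1 : (frm y) ∘ₗ (LinearEquiv.funCongrLeft R R σ.symm).toLinearMap = frm fun i => y (σ i) := by
    ext v
    simp only [LinearMap.comp_apply, frm_apply]
    exact (Equiv.sum_comp σ _).symm.trans (Finset.sum_congr rfl fun i _ => by
      simp [LinearEquiv.funCongrLeft_apply, LinearMap.funLeft_apply])
  rw [h1]
  exact h

section Option

variable {κ : Type*} [Fintype κ] (y : κ → R) (g : R) (a : κ → R)

/-- The family with one more element. -/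
def opt : Option κ → R := fun o => o.elim g y

/-- Inclusion. -/
noncomputable def inc : (κ → R) →ₗ[R] (Option κ → R) where
  toFun v := fun o => o.elim 0 v
  map_add' v w := by
    funext o
    cases o <;> simp
  map_smul' r v := by
    funext o
    cases o <;> simp

/-- Retraction. -/
noncomputable def ret : (Option κ → R) →ₗ[R] (κ → R) where
  toFun w := fun i => w (some i) + w none * a i
  map_add' v w := by
    funext i
    simp only [Pi.add_apply]
    ring
  map_smul' r v := by
    funext i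
    simp only [Pi.smul_apply, smul_eq_mul, RingHom.id_apply]
    ring

variable {y g a}

theorem xReg_opt_iff {x : R} (hg : g ∈ Ideal.span (Set.range y)) : XReg (frm (opt y g)) x ↔ XReg (frm y) x := by
  obtain ⟨a, ha⟩ := Ideal.mem_span_range_iff_exists_fun.1 hg
  constructor
  · intro h
    refine XReg.comp (inc) (ret a) (fun v => ?_) ?_
    · funext i
      simp [inc, ret]
    · have h1 : (frm y) ∘ₗ (ret a) = frm (opt y g) := by
        refine LinearMap.ext fun v => ?_
        rw [LinearMap.comp_apply, frm_apply, frm_apply, Fintype.sum_option, ← ha]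
        simp only [ret, opt, LinearMap.coe_mk, AddHom.coe_mk, Option.elim]
        rw [Finset.mul_sum, ← Finset.sum_add_distrib]
        exact Finset.sum_congr rfl fun i _ => by ring
      rw [h1]
      exact h
  · intro h
    refine XReg.of_split (inc) (ret a) (LinearMap.proj none) (fun o => o.elim 1 (fun i => - a i)) ?_ ?_ ?_
    · intro w
      funext o
      cases o with
      | none => simp [inc, ret]
      | some i => simp [inc, ret]
    · rw [frm_apply, Fintype.sum_option]
      simp [opt, ha]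
    · have h1 : (frm (opt y g)) ∘ₗ inc = frm y := by
        refine LinearMap.ext fun v => ?_
        rw [LinearMap.comp_apply, frm_apply, frm_apply, Fintype.sum_option]
        simp [inc, opt]
      rw [h1]
      exact h

end Option

theorem xReg_sum_iff {κ : Type*} [Fintype κ] (f : κ → R) (x : R) {n : ℕ} (y : Fin n → R)
    (hy : ∀ i, y i ∈ Ideal.span (Set.range f)) :
    XReg (frm (Sum.elim y f)) x ↔ XReg (frm f) x := by
  induction n with
  | zero =>
    let σ : Fin 0 ⊕ κ ≃ κ := Equiv.emptySum _ _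
    constructor
    · intro h
      refine xReg_reindex σ f x ?_
      have h1 : (fun i => f (σ i)) = Sum.elim y f := by
        funext i
        rcases i with i | i
        · exact i.elim0
        · rfl
      rw [h1]
      exact h
    · intro h
      refine xReg_reindex σ.symm _ x ?_
      exact h
  | succ n ih =>
    have ih' := ih (fun i => y i.succ) (fun i => hy i.succ)
    rw [← ih']
    have hmem : y 0 ∈ Ideal.span (Set.range (Sum.elim (fun i : Fin n => y i.succ) f)) := by
      refine Ideal.span_mono ?_ (hy 0)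
      rintro _ ⟨i, rfl⟩
      exact ⟨Sum.inr i, rfl⟩
    rw [← xReg_opt_iff hmem]
    let σ : Fin (n + 1) ⊕ κ ≃ Option (Fin n ⊕ κ) :=
      { toFun := Sum.elim (Fin.cases none (fun i => some (Sum.inl i))) (fun k => some (Sum.inr k))
        invFun := fun o => o.elim (Sum.inl 0) (Sum.elim (fun i => Sum.inl i.succ) Sum.inr)
        left_inv := by
          rintro (i | k)
          · refine Fin.cases ?_ (fun j => ?_) i <;> simp
          · simp
        right_inv := by
          rintro (_ | (i | k)) <;> simp }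
    constructor
    · intro h
      refine xReg_reindex σ _ x ?_
      have h1 : (fun i => opt (Sum.elim (fun i : Fin n => y i.succ) f) (y 0) (σ i)) = Sum.elim y f := by
        funext i
        rcases i with i | i
        · refine Fin.cases ?_ (fun j => ?_) i
          · rfl
          · rfl
        · rfl
      rw [h1]
      exact h
    · intro h
      refine xReg_reindex σ.symm _ x ?_
      have h1 : (fun i => Sum.elim y f (σ.symm i)) = opt (Sum.elim (fun i : Fin n => y i.succ) f) (y 0) := by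
        funext o
        rcases o with _ | (i | k)
        · rfl
        · rfl
        · rfl
      rw [h1]
      exact h

/-- Regularity on Koszul homology only depends on the ideal. -/
theorem xReg_of_span_eq {c n : ℕ} (f : Fin c → R) (y : Fin n → R) (x : R)
    (h : Ideal.span (Set.range f) = Ideal.span (Set.range y)) (hf : XReg (frm f) x) : XReg (frm y) x := by
  have h1 : ∀ i, y i ∈ Ideal.span (Set.range f) := fun i => h ▸ Ideal.subset_span ⟨i, rfl⟩
  have h2 : ∀ i, f i ∈ Ideal.span (Set.range y) := fun i => h ▸ Ideal.subset_span ⟨i, rfl⟩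
  rw [← xReg_sum_iff y x f h2]
  rw [← xReg_sum_iff f x y h1] at hf
  refine xReg_reindex (Equiv.sumComm _ _) _ x ?_
  have h3 : (fun i => Sum.elim f y ((Equiv.sumComm (Fin n) (Fin c)) i)) = Sum.elim y f := by
    funext i
    rcases i with i | i <;> rfl
  rw [h3]
  exact hf

end Seq

theorem ctr_zero_eq {R : Type*} [CommRing R] {E : Type*} [AddCommGroup E] [Module R E] (θ : E →ₗ[R] R)
    (η : ⋀[R]^1 E) : exteriorPower.zeroEquiv R E (ctr θ 0 η) = θ (exteriorPower.oneEquiv R E η) := by
  have h : (exteriorPower.zeroEquiv R E).toLinearMap ∘ₗ (ctr θ 0) = θ ∘ₗ (exteriorPower.oneEquiv R E).toLinearMap := by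
    refine hom_ext' fun v => ?_
    simp only [LinearMap.comp_apply, LinearEquiv.coe_coe]
    rw [ctr_ιMulti, exteriorPower.oneEquiv_ιMulti, Fin.sum_univ_one, map_smul, map_smul,
      exteriorPower.zeroEquiv_ιMulti]
    simp
  exact LinearMap.congr_fun h η

/-- The case of a weakly regular sequence. -/
theorem xReg_of_isWeaklyRegular {R : Type*} [CommRing R] {c : ℕ} (f : Fin c → R)
    (hf : RingTheory.Sequence.IsWeaklyRegular R (List.ofFn f)) (x : R)
    (hx : ∀ r : R, x * r ∈ Ideal.span (Set.range f) → r ∈ Ideal.span (Set.range f)) : XReg (frm f) x := by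
  constructor
  · rintro ω ⟨η, hη⟩
    have h1 := congrArg (exteriorPower.zeroEquiv R (Fin c → R)) hη
    rw [ctr_zero_eq, map_smul, smul_eq_mul] at h1
    have h2 : exteriorPower.zeroEquiv R (Fin c → R) ω ∈ Ideal.span (Set.range f) := by
      apply hx
      rw [← h1, frm_apply]
      exact Ideal.mem_span_range_iff_exists_fun.2 ⟨_, rfl⟩
    obtain ⟨v, hv⟩ := Ideal.mem_span_range_iff_exists_fun.1 h2
    refine ⟨(exteriorPower.oneEquiv R (Fin c → R)).symm v, ?_⟩
    apply (exteriorPower.zeroEquiv R (Fin c → R)).injective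
    rw [ctr_zero_eq, LinearEquiv.apply_symm_apply, frm_apply, hv]
  · intro a ω h0 _
    refine Groth.Agent.Krr.H502.KosExt.kosEx_of_isWeaklyRegular (Pi.basisFun R (Fin c)) (frm f) ?_ a ω h0
    have h1 : (fun j => frm f (Pi.basisFun R (Fin c) j)) = f := by
      funext j
      rw [Pi.basisFun_apply, frm_apply, Finset.sum_eq_single j]
      · simp
      · intro i _ hi
        simp [hi]
      · simp
    rw [h1]
    exact hf

/-- Transport to a module with a basis. -/
theorem xReg_of_basis {R : Type*} [CommRing R] {E : Type*} [AddCommGroup E] [Module R E] {n : ℕ}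
    (b : Module.Basis (Fin n) R E) (θ : E →ₗ[R] R) (x : R) (h : XReg (frm fun i => θ (b i)) x) : XReg θ x := by
  apply XReg.of_equiv b.equivFun.symm
  have h1 : θ ∘ₗ b.equivFun.symm.toLinearMap = frm fun i => θ (b i) := by
    refine LinearMap.ext fun v => ?_
    simp only [LinearMap.comp_apply, LinearEquiv.coe_coe]
    rw [Module.Basis.equivFun_symm_apply, map_sum, frm_apply]
    exact Finset.sum_congr rfl fun i _ => by rw [map_smul, smul_eq_mul]
  rw [h1]
  exact h

end K880.KosReg
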