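import Groth.Agent.KoszSh.K880.Acyclic
import Groth.Agent.Divis.RegStalk
import Groth.Agent.Vancyc.H326.LocReg
import Groth.Agent.Ega4C.HullCM
import Mathlib.AlgebraicGeometry.IdealSheaf.Basic

/-!
# Local complete intersections in Cohen–Macaulay schemes

* `isWeaklyRegular_of_height`: `c` elements of the maximal ideal of a Cohen–Macaulay local ring generating an
  ideal of height at least `c` form a weakly regular sequence;
* `exists_affine`: spreading out at a point of a local complete intersection;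
* `isZero_homology_free`: the Koszul complex of a weakly regular sequence of global functions on an affine scheme
  is acyclic in positive degrees.
-/

set_option autoImplicit false

universe u

open CategoryTheory CategoryTheory.Limits AlgebraicGeometry Opposite TopologicalSpace IsLocalRing
open Groth.Agent.Sga67.Sec Groth.Agent.Sga67.LocBasis Groth.Agent.Sga67.ExtSheaf
open RingTheory.Sequence

namespace K880.LciCM

theorem isWeaklyRegular_of_height (R : Type u) [CommRing R] [hR : LocCoh.IsCohenMacaulayLocalRing R] (rs : List R)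
    (hm : ∀ a ∈ rs, a ∈ maximalIdeal R) (hh : (rs.length : ℕ∞) ≤ (Ideal.ofList rs).height) :
    IsWeaklyRegular R rs := by
  have e : (R ⧸ Ideal.ofList rs • (⊤ : Submodule R R)) ≃ₗ[R] R ⧸ Ideal.ofList rs :=
    Submodule.quotEquivOfEq _ _ (by rw [smul_eq_mul, Ideal.mul_top])
  refine Groth.Agent.CalgB.CM3.isWeaklyRegular_of_supportDim_add_length_le
    hR.supportDim_eq_depth rs hm ?_
  rw [Module.supportDim_eq_of_equiv e, Module.supportDim_quotient_eq_ringKrullDim,
    Module.supportDim_self_eq_ringKrullDim]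
  exact Groth.Agent.Ega4C.HullCM.ringKrullDim_quotient_add_le _ _ hh

variable {X Y : Scheme.{u}}

theorem ofList_ofFn {R : Type*} [CommRing R] {n : ℕ} (f : Fin n → R) :
    Ideal.ofList (List.ofFn f) = Ideal.span (Set.range f) := by
  rw [Ideal.ofList]
  congr 1
  ext x
  simp [List.mem_ofFn]

theorem isWeaklyRegular_stalk (hCM : ∀ x : X, LocCoh.IsCohenMacaulayLocalRing (X.presheaf.stalk x))
    (i : Y ⟶ X) [IsClosedImmersion i] (c : ℕ) (y : Y)
    (hht : (c : ℕ∞) ≤ (RingHom.ker (i.stalkMap y).hom).height) (U : X.affineOpens) (hy : i y ∈ U.1)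
    (g : Fin c → Γ(X, U.1)) (hg : i.ker.ideal U = Ideal.span (Set.range g)) :
    IsWeaklyRegular (X.presheaf.stalk (i y)) (List.ofFn fun k => X.presheaf.germ U.1 (i y) hy (g k)) := by
  have hker := Groth.Agent.Divis.RegStalk.ker_stalkMap i y U hy
  rw [hg, Ideal.map_span, ← Set.range_comp] at hker
  have hker' : Ideal.ofList (List.ofFn fun k => X.presheaf.germ U.1 (i y) hy (g k)) =
      RingHom.ker (i.stalkMap y).hom := by
    rw [hker, ofList_ofFn]
    rfl
  have := hCM (i y)
  apply isWeaklyRegular_of_height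
  · intro a ha
    have h1 : a ∈ RingHom.ker (i.stalkMap y).hom := by
      rw [← hker']
      exact Ideal.subset_span ha
    rw [mem_maximalIdeal, mem_nonunits_iff]
    intro hu
    have h2 := hu.map (i.stalkMap y).hom
    rw [RingHom.mem_ker.mp h1] at h2
    exact not_isUnit_zero h2
  · rw [hker', List.length_ofFn]
    exact hht

theorem exists_affine [IsLocallyNoetherian X]
    (hCM : ∀ x : X, LocCoh.IsCohenMacaulayLocalRing (X.presheaf.stalk x))
    (i : Y ⟶ X) [IsClosedImmersion i] (c : ℕ) (y : Y)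
    (hgen : ∃ U : X.affineOpens, i.base y ∈ U.1 ∧ ∃ g : Fin c → Γ(X, U.1), i.ker.ideal U = Ideal.span (Set.range g))
    (hht : (c : ℕ∞) ≤ (RingHom.ker (i.stalkMap y).hom).height) :
    ∃ U : X.affineOpens, i.base y ∈ U.1 ∧ ∃ f : Fin c → Γ(X, U.1),
      i.ker.ideal U = Ideal.span (Set.range f) ∧ IsWeaklyRegular Γ(X, U.1) (List.ofFn f) := by
  obtain ⟨U, hyU, g, hg⟩ := hgen
  have hreg := isWeaklyRegular_stalk hCM i c y hht U hyU g hg
  obtain ⟨h, hyh, -, hreg'⟩ := Groth.Agent.Vancyc.H326.LocReg.exists_basicOpen_isWeaklyRegular U.2 hyU g hreg ⊤ trivial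
  refine ⟨X.affineBasicOpen h, hyh, fun k => resO X (X.basicOpen_le h) (g k), ?_, hreg'⟩
  rw [← i.ker.map_ideal_basicOpen U h, hg, Ideal.map_span, ← Set.range_comp]
  rfl

theorem isZero_homology_free [IsAffine X] {c : ℕ} (f : Fin c → Γ(X, ⊤))
    (hf : IsWeaklyRegular Γ(X, ⊤) (List.ofFn f)) (s : FlatMod.freeMod X c ⟶ Coh.structureModule X)
    (hs : ∀ k : Fin c, KoszSh.secForm s ⊤ (freeBasis X c k) = f k)
    (C : KoszSh.Cx (FlatMod.freeMod X c) s) (q : ℕ) (hq : 1 ≤ q) : IsZero (C.K.homology q) := by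
  apply K880.Acyclic.isZero_homology C _ q hq
  have hfree : FlatMod.IsFinLocFree (FlatMod.freeMod X c) := by
    rw [isFinLocFree_iff]
    exact fun x => ⟨⊤, c, trivial, _, free_isLocBasis X c⟩
  apply K880.Acyclic.locEx_of_regular (n := c) (Groth.Agent.PerfA.QCohEpi.isQCoh_of_isFinLocFree hfree)
  intro x
  refine ⟨⟨⊤, isAffineOpen_top X⟩, trivial, (free_isLocBasis X c).basis le_rfl, ?_⟩
  have h : ∀ k, KoszSh.secForm s ⊤ ((free_isLocBasis X c).basis le_rfl k) = f k := by
    intro k
    rw [← hs k]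
    congr 1
    rw [IsLocBasis.basis_apply, res_self]
  have h2 : (fun k => KoszSh.secForm s ⊤ ((free_isLocBasis X c).basis le_rfl k)) = f := funext h
  exact h2 ▸ hf

theorem isWeaklyRegular_ringEquiv {R S : Type*} [CommRing R] [CommRing S] (e : R ≃+* S) {n : ℕ} (f : Fin n → R)
    (hf : IsWeaklyRegular R (List.ofFn f)) : IsWeaklyRegular S (List.ofFn fun k => e (f k)) := by
  refine (AddEquiv.isWeaklyRegular_congr (e := e.toAddEquiv) ?_).mp hf
  rw [List.forall₂_iff_get]
  refine ⟨by simp, fun i h1 h2 z => ?_⟩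
  simp

end K880.LciCM
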