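import Groth.Agent.KoszSh.K880.KosReg
import Groth.Agent.KoszSh.K880.LciCM
import Groth.Agent.Pi1A.RamSeq
import Groth.Agent.CalgB.CM2

/-!
# Elements regular modulo a local complete intersection in a Cohen–Macaulay scheme
-/

set_option autoImplicit false

universe u

open CategoryTheory CategoryTheory.Limits AlgebraicGeometry Opposite TopologicalSpace IsLocalRing
open RingTheory.Sequence

namespace K880.LciReg

/-- A Cohen–Macaulay quotient of depth zero has dimension zero. -/
theorem dim_zero_of_ann {S : Type u} [CommRing S] (hS : LocCoh.IsCohenMacaulayLocalRing S) (rs : List S)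
    (mem : ∀ r ∈ rs, r ∈ maximalIdeal S) (reg : IsWeaklyRegular S rs) (a : S) (ha : a ∉ Ideal.ofList rs)
    (hm : ∀ r ∈ maximalIdeal S, r * a ∈ Ideal.ofList rs) : ringKrullDim (S ⧸ Ideal.ofList rs) = 0 := by
  have hSM : LocCoh.IsCohenMacaulayModule S S := hS.supportDim_eq_depth
  have h1 := Groth.Agent.Pi1A.RamSeq.cm_quot_ofList hSM rs mem reg
  have hsm : Ideal.ofList rs • (⊤ : Submodule S S) = Ideal.ofList rs := by
    rw [smul_eq_mul, Ideal.mul_top]
  have hmem : ∀ r, r ∈ (⊥ : Submodule S (S ⧸ Ideal.ofList rs • (⊤ : Submodule S S))).colon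
        {Submodule.Quotient.mk a} ↔ r * a ∈ Ideal.ofList rs := by
    intro r
    rw [Submodule.mem_colon_singleton, Submodule.mem_bot, ← Submodule.Quotient.mk_smul,
      Submodule.Quotient.mk_eq_zero, hsm, smul_eq_mul]
  have hP : maximalIdeal S ∈ associatedPrimes S (S ⧸ Ideal.ofList rs • (⊤ : Submodule S S)) := by
    change IsAssociatedPrime _ _
    rw [isAssociatedPrime_iff]
    refine ⟨inferInstance, Submodule.Quotient.mk a, ?_⟩
    apply (maximalIdeal.isMaximal S).eq_of_le
    · intro h
      have h2 : (1 : S) ∈ (⊥ : Submodule S (S ⧸ Ideal.ofList rs • (⊤ : Submodule S S))).colon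
        {Submodule.Quotient.mk a} := by
        rw [h]
        exact Submodule.mem_top
      rw [hmem, one_mul] at h2
      exact ha h2
    · intro r hr
      exact (hmem r).2 (hm r hr)
  have h2 := Groth.Agent.CalgB.CM2.ringKrullDim_quotient_of_mem_associatedPrimes h1 hP
  have e : (S ⧸ Ideal.ofList rs • (⊤ : Submodule S S)) ≃ₗ[S] S ⧸ Ideal.ofList rs :=
    Submodule.quotEquivOfEq _ _ hsm
  rw [Module.supportDim_eq_of_equiv e, Module.supportDim_quotient_eq_ringKrullDim] at h2
  rw [← h2]
  exact ringKrullDim_eq_zero_of_field (ResidueField S)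

theorem dim_zero_of_localization {A : Type u} [CommRing A] (P : Ideal A) [P.IsPrime] (S : Type u) [CommRing S]
    [Algebra A S] [IsLocalization.AtPrime S P] (hS : LocCoh.IsCohenMacaulayLocalRing S) {c : ℕ} (f : Fin c → A)
    (hf : IsWeaklyRegular A (List.ofFn f)) (hfP : ∀ i, f i ∈ P) (a : A)
    (ha : ∀ s, s ∈ P ↔ s * a ∈ Ideal.span (Set.range f)) :
    ringKrullDim (S ⧸ (Ideal.span (Set.range f)).map (algebraMap A S)) = 0 := by
  have hmax : P.map (algebraMap A S) = maximalIdeal S := by
    have := IsLocalization.AtPrime.map_eq_maximalIdeal P S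
    exact this
  have hlist : Ideal.ofList (List.ofFn fun k => algebraMap A S (f k)) =
      (Ideal.span (Set.range f)).map (algebraMap A S) := by
    rw [LciCM.ofList_ofFn, Ideal.map_span, ← Set.range_comp]
    rfl
  rw [← hlist]
  apply dim_zero_of_ann hS _ _ _ (algebraMap A S a)
  · rw [hlist, IsLocalization.algebraMap_mem_map_algebraMap_iff P.primeCompl]
    rintro ⟨m, hm, h⟩
    exact hm ((ha m).2 h)
  · intro r hr
    rw [← hmax] at hr
    rw [hlist]
    have h1 : P.map (algebraMap A S) * Ideal.span {algebraMap A S a} ≤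
        (Ideal.span (Set.range f)).map (algebraMap A S) := by
      rw [← Set.image_singleton, ← Ideal.map_span, ← Ideal.map_mul]
      apply Ideal.map_mono
      rw [Ideal.mul_le]
      intro s hs t ht
      rw [Ideal.mem_span_singleton] at ht
      obtain ⟨b, rfl⟩ := ht
      rw [← mul_assoc]
      exact Ideal.mul_mem_right _ _ ((ha s).1 hs)
    exact h1 (Ideal.mul_mem_mul hr (Ideal.mem_span_singleton_self _))
  · intro r hr
    rw [List.mem_ofFn] at hr
    obtain ⟨i, rfl⟩ := hr
    rw [← hmax]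
    exact Ideal.mem_map_of_mem _ (hfP i)
  · have h := hf.of_isLocalization (T := P.primeCompl) (S := S)
    rw [List.map_ofFn] at h
    exact h

variable {X : Scheme.{u}}

/-- The dimension of the local ring of a closed subscheme. -/
theorem ringKrullDim_stalk_subscheme (J : X.IdealSheafData) (z : ↥J.subscheme) (V : X.affineOpens)
    (hz : J.subschemeι z ∈ V.1) : ringKrullDim (J.subscheme.presheaf.stalk z) =
      ringKrullDim (X.presheaf.stalk (J.subschemeι z) ⧸ (J.ideal V).map (X.presheaf.germ V.1 (J.subschemeι z) hz).hom) := by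
  have h1 := Groth.Agent.Divis.RegStalk.ker_stalkMap J.subschemeι z V hz
  rw [Scheme.IdealSheafData.ker_subschemeι] at h1
  have hs : Function.Surjective (J.subschemeι.stalkMap z).hom := J.subschemeι.stalkMap_surjective z
  rw [← h1]
  exact (ringKrullDim_eq_of_ringEquiv (RingHom.quotientKerEquivOfSurjective hs)).symm

/-- Regularity modulo a local complete intersection. -/
theorem regular_mod [IsLocallyNoetherian X]
    (hCM : ∀ x : X, LocCoh.IsCohenMacaulayLocalRing (X.presheaf.stalk x))
    (J : X.IdealSheafData) (V : X.affineOpens) {c : ℕ} (f : Fin c → Γ(X, V.1))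
    (hf : IsWeaklyRegular Γ(X, V.1) (List.ofFn f)) (hJ : J.ideal V = Ideal.span (Set.range f))
    (x : Γ(X, V.1)) (hx : ∀ z : ↥J.subscheme, J.subschemeι z ∈ V.1 →
      ringKrullDim (J.subscheme.presheaf.stalk z) = 0 → J.subschemeι z ∈ X.basicOpen x)
    (r : Γ(X, V.1)) (hr : x * r ∈ Ideal.span (Set.range f)) : r ∈ Ideal.span (Set.range f) := by
  by_contra hr'
  have hN : IsNoetherianRing Γ(X, V.1) := IsLocallyNoetherian.component_noetherian V
  have hne : (Submodule.Quotient.mk r : Γ(X, V.1) ⧸ Ideal.span (Set.range f)) ≠ 0 := by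
    rwa [Ne, Submodule.Quotient.mk_eq_zero]
  obtain ⟨P, hP, hle⟩ := exists_le_isAssociatedPrime_of_isNoetherianRing Γ(X, V.1) _ hne
  rw [isAssociatedPrime_iff] at hP
  obtain ⟨hPp, a, ha⟩ := hP
  obtain ⟨a, rfl⟩ := Submodule.Quotient.mk_surjective _ a
  have hmem : ∀ (b s : Γ(X, V.1)), s ∈ (⊥ : Submodule Γ(X, V.1) (Γ(X, V.1) ⧸ Ideal.span (Set.range f))).colon
        {Submodule.Quotient.mk b} ↔ s * b ∈ Ideal.span (Set.range f) := by
    intro b s
    rw [Submodule.mem_colon_singleton, Submodule.mem_bot, ← Submodule.Quotient.mk_smul,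
      Submodule.Quotient.mk_eq_zero, smul_eq_mul]
  have hxP : x ∈ P := hle ((hmem r x).2 hr)
  have haP : ∀ s, s ∈ P ↔ s * a ∈ Ideal.span (Set.range f) := fun s => by rw [ha, hmem]
  have hfP : ∀ i, f i ∈ P := fun i => (haP _).2 (Ideal.mul_mem_right _ _ (Ideal.subset_span ⟨i, rfl⟩))
  let p : X := V.2.fromSpec ⟨P, hPp⟩
  have hpV : p ∈ V.1 := (V.2.isoSpec.inv _).2
  let alg := TopCat.Presheaf.algebra_section_stalk X.presheaf ⟨p, hpV⟩
  have hloc : IsLocalization.AtPrime (X.presheaf.stalk p) P := V.2.isLocalization_stalk' ⟨P, hPp⟩ hpV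
  have hzero : ∀ s : Γ(X, V.1), p ∈ X.basicOpen s ↔ s ∉ P := by
    intro s
    rw [Scheme.mem_basicOpen (hx := hpV)]
    exact IsLocalization.AtPrime.isUnit_to_map_iff (X.presheaf.stalk p) P s
  have hpJ : p ∈ J.support := by
    rw [Scheme.IdealSheafData.mem_support_iff_of_mem (U := V) hpV, hJ, Scheme.mem_zeroLocus_iff]
    intro s hs hps
    refine (hzero s).1 hps ?_
    have h1 : Ideal.span (Set.range f) ≤ P := by
      rw [Ideal.span_le]
      rintro _ ⟨i, rfl⟩
      exact hfP i
    exact h1 hs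
  obtain ⟨z, hz⟩ : p ∈ Set.range J.subschemeι := by
    rw [Scheme.IdealSheafData.range_subschemeι]
    exact hpJ
  have hdim := dim_zero_of_localization P (X.presheaf.stalk p) (hCM p) f hf hfP a haP
  have key : ∀ (q : X) (hq : q ∈ V.1), q = p →
      ringKrullDim (X.presheaf.stalk q ⧸ (J.ideal V).map (X.presheaf.germ V.1 q hq).hom) = 0 := by
    rintro q hq rfl
    rw [hJ]
    exact hdim
  have hzV : J.subschemeι z ∈ V.1 := by rw [hz]; exact hpV
  have h2 := hx z hzV (by
    rw [ringKrullDim_stalk_subscheme J z V hzV]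
    exact key _ hzV hz)
  rw [hz] at h2
  exact (hzero x).1 h2 hxP

end K880.LciReg
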