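import Groth.Agent.KoszSh.K880.Scale
import Groth.Agent.KoszSh.K880.IdealSum
import Groth.Agent.KoszSh.K880.Fib

/-!
# The homology of the twisted Koszul complex as a fibre product
-/

set_option autoImplicit false

universe u

open CategoryTheory CategoryTheory.Limits AlgebraicGeometry Opposite TopologicalSpace
open Groth.Agent.Sga67.Sec Groth.Agent.Sga67.LocBasis Groth.Agent.Sga67.ExtSheaf
open Groth.Agent.Krr.H502.KosSheaf
open Groth.Agent.Dix.IdealModCartier (val val_injective val_smul val_res genOn_of_affine)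
open K880.Glue K880.Coprod K880.IdealSum K880.Scale K880.Homol K880.Fib

namespace K880.Twisted

variable {X : Scheme.{u}} {n : ℕ}

/-- The terms of a Koszul complex of a sum of Cartier ideals are quasi-coherent. -/
theorem isQCoh_X {I : Fin n → X.IdealSheafData} (hI : ∀ i, BlowUp.IsEffCartierIdeal (I i))
    (C : KoszSh.Cx (IdealSum.E I) (IdealSum.s I)) (p : ℕ) : Coh.IsQCoh (C.K.X p) :=
  Groth.Agent.PerfA.QCohEpi.isQCoh_of_isFinLocFree
    (isFinLocFree_of_isExtPow (isFinLocFree_E I hI) (C.isExtPow p))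

theorem isEffCartier_mul {I D : X.IdealSheafData} (hI : BlowUp.IsEffCartierIdeal I)
    (hD : BlowUp.IsEffCartierIdeal D) : BlowUp.IsEffCartierIdeal (I * D) := by
  intro x
  obtain ⟨U, a, b, hx, ha, hb⟩ := Groth.Agent.Dix.IdealModCartier.exists_genOn₂ hI hD x
  have h := (ha.mul hb) U le_rfl
  exact ⟨U, hx, _, h.1, h.2⟩

variable {I : Fin n → X.IdealSheafData} {D : X.IdealSheafData}
  {C : KoszSh.Cx (IdealSum.E I) (IdealSum.s I)}
  {C' : KoszSh.Cx (IdealSum.E fun i => I i * D) (IdealSum.s fun i => I i * D)}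

variable (I D) in
/-- The local data over an affine open: generators of `D` and of the ideals. -/
structure Loc (U : X.affineOpens) where
  x : Γ(X, U.1)
  hx : x ∈ nonZeroDivisors Γ(X, U.1)
  hD : D.ideal U = Ideal.span {x}
  t : Sec (ClSub.idealMod D) U.1
  ht : val D (show Γ(ClSub.idealMod D, U.1) from t) = x
  m : Sec (IdealSum.E I) U.1 ≃ₗ[Γ(X, U.1)] Sec (IdealSum.E fun i => I i * D) U.1
  hm : IsScale I (fun i => I i * D) x m

theorem exists_loc {U : X.affineOpens} {x : Γ(X, U.1)} (hx : x ∈ nonZeroDivisors Γ(X, U.1))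
    (hD : D.ideal U = Ideal.span {x}) : Nonempty (Loc I D U) := by
  obtain ⟨t, ht⟩ := exists_lift hD
  obtain ⟨m, hm⟩ := exists_scale (I := I) (I' := fun i => I i * D) hx (fun i => by
    simp only [Scheme.IdealSheafData.ideal_mul, Pi.mul_apply]
    rw [hD, mul_comm])
  exact ⟨⟨x, hx, hD, t, ht, m, hm⟩⟩

namespace Loc

variable {U : X.affineOpens} (L : Loc I D U)

theorem isLocBasis_t : IsLocBasis (fun _ : Unit => L.t) :=
  isLocBasis_of_genOn (L.ht.symm ▸ genOn_of_affine L.hx L.hD)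

/-- Two local data differ by a function. -/
theorem exists_factor (L' : Loc I D U) : ∃ u : Γ(X, U.1), L'.x = u * L.x ∧ L'.t = u • L.t ∧
    ∀ e, L'.m e = u • L.m e := by
  have h1 : L'.x ∈ Ideal.span {L.x} := by
    rw [← L.hD, L'.hD]
    exact Ideal.mem_span_singleton_self _
  rw [Ideal.mem_span_singleton] at h1
  obtain ⟨u, hu⟩ := h1
  rw [mul_comm] at hu
  refine ⟨u, hu, ?_, ?_⟩
  · apply val_injective D
    refine L'.ht.trans ?_
    refine hu.trans ?_
    refine Eq.trans ?_ (val_smul D u (show Γ(ClSub.idealMod D, U.1) from L.t)).symm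
    exact congrArg (fun t => u * t) L.ht.symm
  · exact IsScale.smul L.hm (hu ▸ L'.hm)

/-- Restriction of local data. -/
theorem exists_restrict {V : X.affineOpens} (h : V.1 ≤ U.1) : ∃ L' : Loc I D V,
    L'.x = resO X h L.x ∧ L'.t = res _ h L.t ∧ ∀ e, res _ h (L.m e) = L'.m (res _ h e) := by
  have h1 := genOn_of_affine L.hx L.hD V h
  have h2 : val D (show Γ(ClSub.idealMod D, V.1) from res _ h L.t) = resO X h L.x := by
    rw [← L.ht]
    exact val_res D h (show Γ(ClSub.idealMod D, U.1) from L.t)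
  obtain ⟨m, hm⟩ := exists_scale (I := I) (I' := fun i => I i * D) (x := resO X h L.x) h1.1 (fun i => by
    simp only [Scheme.IdealSheafData.ideal_mul, Pi.mul_apply]
    rw [h1.2, mul_comm]
    rfl)
  exact ⟨⟨resO X h L.x, h1.1, h1.2, res _ h L.t, h2, m, hm⟩, rfl, rfl, fun e => IsScale.res h L.hm hm e⟩

/-- The relation between the sections of `H_q(K')` and of `P(-qD)`. -/
def Rel (C : KoszSh.Cx (IdealSum.E I) (IdealSum.s I))
    (C' : KoszSh.Cx (IdealSum.E fun i => I i * D) (IdealSum.s fun i => I i * D)) (q : ℕ)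
    {P : X.Modules} (α : C.K.cycles q ⟶ P) (h' : Sec (C'.K.homology q) U.1)
    (w : Sec (CohB1.tensorMod P (CohB1.tensorPow (ClSub.idealMod D) q)) U.1) : Prop :=
  ∃ z z', T C C' q L.m z z' ∧ appS (C'.K.homologyπ q) U.1 z' = h' ∧
    tw P (tpow (ClSub.idealMod D) L.t q) (appS α U.1 z) = w

variable {L} {q : ℕ} {P : X.Modules} {α : C.K.cycles q ⟶ P}

theorem Rel.add {h₁ h₂ : Sec (C'.K.homology q) U.1}
    {w₁ w₂ : Sec (CohB1.tensorMod P (CohB1.tensorPow (ClSub.idealMod D) q)) U.1}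
    (r₁ : L.Rel C C' q α h₁ w₁) (r₂ : L.Rel C C' q α h₂ w₂) : L.Rel C C' q α (h₁ + h₂) (w₁ + w₂) := by
  obtain ⟨z₁, z₁', t₁, rfl, rfl⟩ := r₁
  obtain ⟨z₂, z₂', t₂, rfl, rfl⟩ := r₂
  exact ⟨z₁ + z₂, z₁' + z₂', t₁.add t₂, by rw [map_add], by rw [map_add, map_add]⟩

theorem Rel.smul (a : Γ(X, U.1)) {h : Sec (C'.K.homology q) U.1}
    {w : Sec (CohB1.tensorMod P (CohB1.tensorPow (ClSub.idealMod D) q)) U.1}
    (r : L.Rel C C' q α h w) : L.Rel C C' q α (a • h) (a • w) := by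
  obtain ⟨z, z', t, rfl, rfl⟩ := r
  exact ⟨a • z, a • z', t.smul a, by rw [map_smul], by rw [map_smul, map_smul]⟩

theorem Rel.change {L' : Loc I D U} {h : Sec (C'.K.homology q) U.1}
    {w : Sec (CohB1.tensorMod P (CohB1.tensorPow (ClSub.idealMod D) q)) U.1}
    (r : L'.Rel C C' q α h w) : L.Rel C C' q α h w := by
  obtain ⟨z, z', t, rfl, rfl⟩ := r
  obtain ⟨u, -, hu, hu'⟩ := L.exists_factor L'
  refine ⟨u ^ q • z, z', t.change hu', rfl, ?_⟩
  rw [hu, tpow_smul, tw_smul, map_smul]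

theorem Rel.res {V : X.affineOpens} (hV : V.1 ≤ U.1) {L' : Loc I D V} {h : Sec (C'.K.homology q) U.1}
    {w : Sec (CohB1.tensorMod P (CohB1.tensorPow (ClSub.idealMod D) q)) U.1}
    (r : L.Rel C C' q α h w) : L'.Rel C C' q α (Groth.Agent.Sga67.Sec.res _ hV h)
      (Groth.Agent.Sga67.Sec.res _ hV w) := by
  obtain ⟨z, z', t, rfl, rfl⟩ := r
  obtain ⟨L₁, -, h₂, h₃⟩ := L.exists_restrict hV
  refine Rel.change (L' := L₁) ⟨_, _, t.res hV h₃, ?_, ?_⟩
  · rw [appS_res]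
  · rw [res_tw, res_tpow, appS_res, h₂]

end Loc

/-- Local conditions for the existence of an isomorphism. -/
theorem nonempty_iso (hI : ∀ i, BlowUp.IsEffCartierIdeal (I i)) (hD : BlowUp.IsEffCartierIdeal D)
    (C : KoszSh.Cx (IdealSum.E I) (IdealSum.s I))
    (C' : KoszSh.Cx (IdealSum.E fun i => I i * D) (IdealSum.s fun i => I i * D)) (q : ℕ)
    {P : X.Modules} (α : C.K.cycles q ⟶ P)
    (hα : ∀ (U : X.affineOpens) (x : Γ(X, U.1)), x ∈ nonZeroDivisors Γ(X, U.1) → D.ideal U = Ideal.span {x} →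
      Function.Surjective (appS α U.1) ∧ ∀ z : Sec (C.K.cycles q) U.1, appS α U.1 z = 0 ↔
        ∃ z₁ : Sec (C.K.cycles q) U.1, appS (C.K.homologyπ q) U.1 z₁ = 0 ∧ z = x • z₁) :
    Nonempty (C'.K.homology q ≅ CohB1.tensorMod P (CohB1.tensorPow (ClSub.idealMod D) q)) := by
  let 𝓑 : Type u := { U : X.affineOpens // (∃ x ∈ nonZeroDivisors Γ(X, U.1), D.ideal U = Ideal.span {x}) ∧
    ∃ y : Fin n → Γ(X, U.1), (∀ i, y i ∈ nonZeroDivisors Γ(X, U.1)) ∧ ∀ i, (I i).ideal U = Ideal.span {y i} }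
  have hB : Opens.IsBasis (Set.range (fun U : 𝓑 => U.1.1)) := by
    rw [Opens.isBasis_iff_nbhd]
    intro V x hx
    obtain ⟨W, a, hxW, ha⟩ := Groth.Agent.Dix.IdealModCartier.exists_genOn hD x
    obtain ⟨U, hUV, hxU, y, hy, hy'⟩ := exists_gen I hI x (V ⊓ W.1) ⟨hx, hxW⟩
    exact ⟨U.1, ⟨⟨U, ⟨_, (ha U (hUV.trans inf_le_right)).1, (ha U (hUV.trans inf_le_right)).2⟩, y, hy, hy'⟩,
      rfl⟩, hxU, hUV.trans inf_le_left⟩
  have hL : ∀ U : 𝓑, Nonempty (Loc I D U.1) := fun U => by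
    obtain ⟨⟨x, hx, hx'⟩, -⟩ := U.2
    exact exists_loc hx hx'
  let L : ∀ U : 𝓑, Loc I D U.1 := fun U => (hL U).some
  have hK := isQCoh_X hI C
  have hK' := isQCoh_X (fun i => isEffCartier_mul (hI i) hD) C'
  have hlin : ∀ (U : 𝓑) e, lin (IdealSum.s fun i => I i * D) U.1.1 ((L U).m e) =
      (L U).x * lin (IdealSum.s I) U.1.1 e := fun U e => (L U).hm.lin e
  have htw : ∀ U : 𝓑, Function.Bijective (tw P (tpow (ClSub.idealMod D) (L U).t q)) := fun U =>
    twist_bijective P (isLocBasis_tpow _ (L U).isLocBasis_t q)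
  refine nonempty_iso_of_rel hB _ _ (fun U => (L U).Rel C C' q α) (fun U b b' c c' h h' => h.add h')
    (fun U a b c h => h.smul a) ?_ ?_ ?_ ?_ (fun U V h b c r => r.res h)
  · intro U h'
    obtain ⟨z', rfl⟩ := π_surjective C'.K hK' q U.1.2 h'
    obtain ⟨-, y, hy, hy'⟩ := U.2
    obtain ⟨b, hb, -⟩ := isLocBasis_gen I y hy hy'
    obtain ⟨z, hz⟩ := T.exists_left (hlin U) hb (L U).hx q z'
    exact ⟨_, z, z', hz, rfl, rfl⟩
  · intro U w
    obtain ⟨p, rfl⟩ := (htw U).2 w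
    obtain ⟨z, rfl⟩ := (hα U.1 _ (L U).hx (L U).hD).1 p
    obtain ⟨z', hz'⟩ := T.exists_right (hlin U) q z
    exact ⟨_, z, z', hz', rfl, rfl⟩
  · rintro U w ⟨z, z', hz, h, rfl⟩
    rw [T.π_eq_zero_iff (hlin U) hK hK' q hz, ← (hα U.1 _ (L U).hx (L U).hD).2] at h
    rw [h, map_zero]
  · rintro U h' ⟨z, z', hz, rfl, h⟩
    have h1 : appS α U.1.1 z = 0 := (htw U).1 (h.trans (map_zero _).symm)
    rw [(hα U.1 _ (L U).hx (L U).hD).2] at h1
    exact (T.π_eq_zero_iff (hlin U) hK hK' q hz).2 h1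

/-- The homology of the twisted complex as a twisted fibre product. -/
theorem nonempty_iso_pullback (hI : ∀ i, BlowUp.IsEffCartierIdeal (I i)) (hD : BlowUp.IsEffCartierIdeal D)
    (C : KoszSh.Cx (IdealSum.E I) (IdealSum.s I))
    (C' : KoszSh.Cx (IdealSum.E fun i => I i * D) (IdealSum.s fun i => I i * D)) (q : ℕ)
    (hreg : ∀ (U : X.affineOpens) (x : Γ(X, U.1)), x ∈ nonZeroDivisors Γ(X, U.1) →
      D.ideal U = Ideal.span {x} → IsSMulRegular (Sec (C.K.homology q) U.1) x) :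
    Nonempty (C'.K.homology q ≅ CohB1.tensorMod (Fib.P D (C.K.homologyπ q))
      (CohB1.tensorPow (ClSub.idealMod D) q)) := by
  have hK := isQCoh_X hI C
  have hZ := isQCoh_cycles C.K hK q
  have hH := isQCoh_homology C.K hK q
  refine nonempty_iso hI hD C C' q (Fib.α D (C.K.homologyπ q)) fun U x hx hx' => ⟨?_, ?_⟩
  · exact α_surjective D _ hZ hH U hx' (π_surjective C.K hK q U.2)
  · exact α_eq_zero_iff D _ hZ U hx' (hreg U x hx hx')

end K880.Twisted
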