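import Groth.Agent.KoszSh.K880.LciReg
import Groth.Agent.KoszSh.K880.Twisted
import Groth.Agent.Lefpen.H705.ClosedPoint
import Groth.Agent.Ega4A.RegCM
import Groth.Prelude.Def_RegImm

/-!
# Koszul homology of a local complete intersection and divisors containing no component
-/

set_option autoImplicit false

universe u

open CategoryTheory CategoryTheory.Limits AlgebraicGeometry Opposite TopologicalSpace
open Groth.Agent.Sga67.Sec Groth.Agent.Sga67.LocBasis Groth.Agent.Sga67.ExtSheaf
open Groth.Agent.Sga67.SymKoszulAlg Groth.Agent.Krr.H502.KosSheaf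
open K880.Functor K880.Acyclic K880.IdealSum K880.Homol K880.KosReg
open RingTheory.Sequence

namespace K880.LciTwist

variable {X : Scheme.{u}}

/-- Algebraic regularity implies regularity on the homology sheaf over an affine open. -/
theorem homology_reg {E : X.Modules} {s : E ⟶ Coh.structureModule X} (C : KoszSh.Cx E s)
    (hK : ∀ p, Coh.IsQCoh (C.K.X p)) (V : X.affineOpens) {x : Γ(X, V.1)} (h : XReg (lin s V.1) x) (q : ℕ)
    (η : Sec (C.K.homology q) V.1) (hη : x • η = 0) : η = 0 := by
  obtain ⟨z, rfl⟩ := π_surjective C.K hK q V.2 η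
  rw [← map_smul, π_eq_zero_iff C.K hK q V.2] at hη
  rw [π_eq_zero_iff C.K hK q V.2]
  obtain ⟨k, hk⟩ := hη
  have h1 : ∃ η, ctr (lin s V.1) q η = x • ph C q V (appS (C.K.iCycles q) V.1 z) := by
    refine ⟨ph C (q + 1) V k, ?_⟩
    rw [← isCtr C q V, hk, map_smul, map_smul]
  have h2 : ∃ η, ctr (lin s V.1) q η = ph C q V (appS (C.K.iCycles q) V.1 z) := by
    rcases q with _ | q
    · exact h.1 _ h1
    · refine h.2 q _ ?_ h1
      rw [← isCtr C q V, d_iCycles, map_zero]
  obtain ⟨ζ, hζ⟩ := h2
  refine ⟨(ph C (q + 1) V).symm ζ, ?_⟩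
  apply (ph C q V).injective
  rw [isCtr C q V, LinearEquiv.apply_symm_apply, hζ]

theorem isWeaklyRegular_restrict {U V : X.affineOpens} (h : V.1 ≤ U.1) {c : ℕ} (f : Fin c → Γ(X, U.1))
    (hf : IsWeaklyRegular Γ(X, U.1) (List.ofFn f)) :
    IsWeaklyRegular Γ(X, V.1) (List.ofFn fun j => resO X h (f j)) := by
  let := (resO X h).toAlgebra
  have hfl : Module.Flat Γ(X, U.1) Γ(X, V.1) := Groth.Agent.Divis.EffCartier.flat_res U.2 V.2 h
  have h2 := hf.of_flat (S := Γ(X, V.1))
  rw [List.map_ofFn] at h2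
  exact h2

variable {n : ℕ} (I : Fin n → X.IdealSheafData) (D : X.IdealSheafData)

theorem isSMulRegular_homology [IsLocallyNoetherian X]
    (hCM : ∀ x : X, LocCoh.IsCohenMacaulayLocalRing (X.presheaf.stalk x))
    (hI : ∀ i, BlowUp.IsEffCartierIdeal (I i))
    (hZ : RegImm.IsRegularImmersion RegImm.Kind.regular (⨆ i, I i).subschemeι)
    (hZD : ∀ z : ↥(⨆ i, I i).subscheme, ringKrullDim ((⨆ i, I i).subscheme.presheaf.stalk z) = 0 →
      (⨆ i, I i).subschemeι.base z ∉ Set.range D.subschemeι.base)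
    (C : KoszSh.Cx (IdealSum.E I) (IdealSum.s I)) (q : ℕ) (U : X.affineOpens) (x : Γ(X, U.1))
    (hx : x ∈ nonZeroDivisors Γ(X, U.1)) (hxD : D.ideal U = Ideal.span {x}) :
    IsSMulRegular (Sec (C.K.homology q) U.1) x := by
  have hK := Twisted.isQCoh_X hI C
  -- it suffices that sections killed by x vanish
  suffices H : ∀ η : Sec (C.K.homology q) U.1, x • η = 0 → η = 0 by
    intro a b hab
    have h1 : x • (a - b) = 0 := by
      rw [smul_sub]
      exact sub_eq_zero.mpr hab
    exact sub_eq_zero.mp (H _ h1)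
  intro η hη
  apply eq_of_locally
  intro p hp
  -- a small affine neighbourhood on which the ideal is generated by a weakly regular sequence
  have key : ∃ (W : X.affineOpens) (c : ℕ) (f : Fin c → Γ(X, W.1)), p ∈ W.1 ∧
      IsWeaklyRegular Γ(X, W.1) (List.ofFn f) ∧ (⨆ i, I i).ideal W = Ideal.span (Set.range f) := by
    by_cases hpZ : p ∈ (⨆ i, I i).support
    · obtain ⟨z, rfl⟩ : p ∈ Set.range (⨆ i, I i).subschemeι := by
        rw [Scheme.IdealSheafData.range_subschemeι]
        exact hpZ
      obtain ⟨W, hW, -, rs, hrs, hker⟩ := hZ.2 z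
      refine ⟨W, rs.length, rs.get, hW, ?_, ?_⟩
      · rw [List.ofFn_get]
        exact hrs.toIsWeaklyRegular
      · rw [← LciCM.ofList_ofFn, List.ofFn_get, ← hker, Scheme.IdealSheafData.ker_subschemeι_app]
    · rw [Scheme.IdealSheafData.mem_support_iff_of_mem (U := U) hp, Scheme.mem_zeroLocus_iff] at hpZ
      push Not at hpZ
      obtain ⟨s, hs, hps⟩ := hpZ
      refine ⟨X.affineBasicOpen s, 1, fun _ => 1, hps, ?_, ?_⟩
      · rw [List.ofFn_succ, List.ofFn_zero, isWeaklyRegular_singleton_iff]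
        exact IsSMulRegular.one _
      · rw [Set.range_const, Ideal.span_singleton_one, ← (⨆ i, I i).map_ideal_basicOpen U s]
        refine (Ideal.eq_top_iff_one _).2 ?_
        have h1 := Ideal.mem_map_of_mem (X.presheaf.map (homOfLE (X.basicOpen_le s)).op).hom hs
        have h2 : IsUnit ((X.presheaf.map (homOfLE (X.basicOpen_le s)).op).hom s) :=
          RingedSpace.isUnit_res_basicOpen X.toRingedSpace s
        obtain ⟨t, ht⟩ := h2.exists_left_inv
        rw [← ht]
        exact Ideal.mul_mem_left _ _ h1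
  obtain ⟨W, c, f, hpW, hf, hfI⟩ := key
  obtain ⟨V, hV, hpV, y, hy, hy'⟩ := exists_gen I hI p (U.1 ⊓ W.1) ⟨hp, hpW⟩
  have hVU : V.1 ≤ U.1 := hV.trans inf_le_left
  have hVW : V.1 ≤ W.1 := hV.trans inf_le_right
  refine ⟨V.1, hVU, hpV, ?_⟩
  rw [map_zero]
  have hf' := isWeaklyRegular_restrict hVW f hf
  have hfI' : (⨆ i, I i).ideal V = Ideal.span (Set.range fun j => resO X hVW (f j)) := by
    rw [← (⨆ i, I i).map_ideal (U := V) (V := W) hVW, hfI, Ideal.map_span, ← Set.range_comp]
    rfl
  have hyI : (⨆ i, I i).ideal V = Ideal.span (Set.range y) := by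
    rw [Scheme.IdealSheafData.ideal_iSup, iSup_apply]
    simp only [hy']
    rw [← Ideal.span_iUnion, Set.iUnion_singleton_eq_range]
  obtain ⟨b, hb, hb1, hb2⟩ := isLocBasis_gen I y hy hy'
  let B := hb.basis (le_refl V.1)
  have hB : ∀ i, lin (IdealSum.s I) V.1 (B i) = y i := by
    intro i
    rw [IsLocBasis.basis_apply, res_self, lin_eq, Finset.sum_eq_single i]
    · exact hb1 i
    · intro j _ hj
      exact hb2 i j hj.symm
    · intro h
      exact absurd (Finset.mem_univ i) h
  have hreg : XReg (lin (IdealSum.s I) V.1) (resO X hVU x) := by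
    apply xReg_of_basis B
    simp only [hB]
    apply xReg_of_span_eq (fun j => resO X hVW (f j)) y _ (hfI'.symm.trans hyI)
    apply xReg_of_isWeaklyRegular _ hf'
    intro r hr
    refine LciReg.regular_mod hCM (⨆ i, I i) V _ hf' hfI' (resO X hVU x) ?_ r hr
    intro z hz hdim
    have h1 := hZD z hdim
    by_contra h2
    apply h1
    have h3 : (⨆ i, I i).subschemeι z ∈ (D.support : Set X) := by
      have hDV : D.ideal V = Ideal.span {resO X hVU x} := by
        rw [← D.map_ideal (U := V) (V := U) hVU, hxD, Ideal.map_span, Set.image_singleton]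
        rfl
      change _ ∈ D.support
      rw [Scheme.IdealSheafData.mem_support_iff_of_mem (U := V) hz, hDV, Scheme.mem_zeroLocus_iff]
      intro s hs hps
      rw [SetLike.mem_coe, Ideal.mem_span_singleton] at hs
      obtain ⟨t, rfl⟩ := hs
      rw [Scheme.basicOpen_mul] at hps
      exact h2 hps.1
    rw [← Scheme.IdealSheafData.range_subschemeι] at h3
    exact h3
  apply homology_reg C hK V hreg q
  rw [← res_smul, hη, map_zero]

end K880.LciTwist
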