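import Groth.Agent.KoszSh.K880.KosKer
import Groth.Agent.KoszSh.K880.Twisted

/-!
# Koszul complexes of `n` copies of one Cartier divisor
-/

set_option autoImplicit false

universe u

open CategoryTheory CategoryTheory.Limits AlgebraicGeometry Opposite TopologicalSpace
open Groth.Agent.Sga67.Sec Groth.Agent.Sga67.LocBasis Groth.Agent.Sga67.ExtSheaf
open Groth.Agent.Sga67.SymKoszulAlg Groth.Agent.Krr.H502.KosSheaf
open Groth.Agent.Dix.IdealModCartier (val val_injective val_smul val_res genOn_of_affine)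
open K880.Functor K880.Acyclic K880.Glue K880.Coprod K880.IdealSum K880.Scale K880.Homol K880.Fib

namespace K880.SameDiv

variable {X : Scheme.{u}}

section Ext

variable {p : ℕ} {F L E K : X.Modules} (φ : Phi p F L) (ψ : Phi p E K)

/-- The exterior power of a linear map between sections. -/
noncomputable def ext {U : X.affineOpens} (m : Sec F U.1 →ₗ[Γ(X, U.1)] Sec E U.1) :
    Sec L U.1 →ₗ[Γ(X, U.1)] Sec K U.1 :=
  (ψ U).symm.toLinearMap ∘ₗ (exteriorPower.map p m) ∘ₗ (φ U).toLinearMap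

theorem ψ_ext {U : X.affineOpens} (m : Sec F U.1 →ₗ[Γ(X, U.1)] Sec E U.1) (l : Sec L U.1) :
    ψ U (ext φ ψ m l) = exteriorPower.map p m (φ U l) := (ψ U).apply_symm_apply _

theorem ext_symm_ιMulti {U : X.affineOpens} (m : Sec F U.1 →ₗ[Γ(X, U.1)] Sec E U.1)
    (e : Fin p → Sec F U.1) :
    ext φ ψ m ((φ U).symm (exteriorPower.ιMulti _ p e)) =
      (ψ U).symm (exteriorPower.ιMulti _ p (fun j => m (e j))) := by
  apply (ψ U).injective
  rw [ψ_ext, LinearEquiv.apply_symm_apply, LinearEquiv.apply_symm_apply, exteriorPower.map_apply_ιMulti]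
  rfl

variable {φ ψ}

theorem res_ext (hφ : PhiComp φ) (hψ : PhiComp ψ) {U V : X.affineOpens} (h : V.1 ≤ U.1)
    (m : Sec F U.1 →ₗ[Γ(X, U.1)] Sec E U.1)
    (m' : Sec F V.1 →ₗ[Γ(X, V.1)] Sec E V.1) (hm : ∀ e, res _ h (m e) = m' (res _ h e))
    (l : Sec L U.1) : res _ h (ext φ ψ m l) = ext φ ψ m' (res _ h l) := by
  refine phi_induction φ U (C := fun l => res _ h (ext φ ψ m l) = ext φ ψ m' (res _ h l))
    ?_ ?_ ?_ ?_ l
  · simp only [map_zero]
  · intro a b ha hb
    rw [map_add, map_add, map_add, map_add, ha, hb]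
  · intro a b hb
    rw [map_smul, res_smul, res_smul, map_smul, hb]
  · intro e
    rw [ext_symm_ιMulti, hψ U V h, hφ U V h, ext_symm_ιMulti]
    simp only [hm]

theorem ext_smul {U : X.affineOpens} (m m' : Sec F U.1 →ₗ[Γ(X, U.1)] Sec E U.1) (u : Γ(X, U.1))
    (h : ∀ e, m' e = u • m e) (l : Sec L U.1) :
    ext φ ψ m' l = u ^ p • ext φ ψ m l := by
  apply (ψ U).injective
  rw [ψ_ext, map_smul, ψ_ext]
  exact map_smul_map m m' u h p _

end Ext

/-- The forms `-Σ x_j, x_1, …, x_k` on `O_X^k`, for `n = k + 1`. -/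
noncomputable def c (X : Scheme.{u}) : (n : ℕ) → Fin n → (FlatMod.freeMod X (n - 1) ⟶ Coh.structureModule X)
  | 0 => fun i => i.elim0
  | k + 1 => Fin.cons (-∑ j, freeProj X k j) (fun j => freeProj X k j)

/-- Local data over an affine open. -/
structure Loc (n : ℕ) (J : X.IdealSheafData) (U : X.affineOpens) where
  y : Γ(X, U.1)
  hy : y ∈ nonZeroDivisors Γ(X, U.1)
  hJ : J.ideal U = Ideal.span {y}
  t : Sec (ClSub.idealMod J) U.1
  ht : val J (show Γ(ClSub.idealMod J, U.1) from t) = y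
  m : Sec (FlatMod.freeMod X (n - 1)) U.1 →ₗ[Γ(X, U.1)] Sec (IdealSum.E fun _ : Fin n => J) U.1
  hm : ∀ f i, co _ i U.1 (m f) = y * lin (c X n i) U.1 f

variable {n : ℕ} {J : X.IdealSheafData}

theorem exists_m {U : X.affineOpens} {y : Γ(X, U.1)} (hJ : J.ideal U = Ideal.span {y}) :
    ∃ m : Sec (FlatMod.freeMod X (n - 1)) U.1 →ₗ[Γ(X, U.1)] Sec (IdealSum.E fun _ : Fin n => J) U.1,
      ∀ f i, co _ i U.1 (m f) = y * lin (c X n i) U.1 f := by
  have h1 : ∀ f : Sec (FlatMod.freeMod X (n - 1)) U.1, ∃ e : Sec (IdealSum.E fun _ : Fin n => J) U.1,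
      ∀ i, co _ i U.1 e = y * lin (c X n i) U.1 f := by
    intro f
    apply exists_of_co
    intro i
    rw [hJ]
    exact Ideal.mul_mem_right _ _ (Ideal.mem_span_singleton_self y)
  choose g hg using h1
  refine ⟨{ toFun := g, map_add' := fun a b => ?_, map_smul' := fun r a => ?_ }, hg⟩
  · apply co_ext
    intro i
    rw [hg, map_add, map_add, hg, hg, mul_add]
  · apply co_ext
    intro i
    rw [hg, map_smul, map_smul, hg, smul_eq_mul, smul_eq_mul, RingHom.id_apply, mul_left_comm]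

theorem exists_loc (n : ℕ) {U : X.affineOpens} {y : Γ(X, U.1)} (hy : y ∈ nonZeroDivisors Γ(X, U.1))
    (hJ : J.ideal U = Ideal.span {y}) : Nonempty (Loc n J U) := by
  obtain ⟨t, ht⟩ := exists_lift hJ
  obtain ⟨m, hm⟩ := exists_m (n := n) hJ
  exact ⟨⟨y, hy, hJ, t, ht, m, hm⟩⟩

namespace Loc

variable {U : X.affineOpens} (N : Loc n J U)

theorem isLocBasis_t : IsLocBasis (fun _ : Unit => N.t) :=
  isLocBasis_of_genOn (N.ht.symm ▸ genOn_of_affine N.hy N.hJ)

theorem exists_factor (N' : Loc n J U) : ∃ u : Γ(X, U.1), N'.y = u * N.y ∧ N'.t = u • N.t ∧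
    ∀ e, N'.m e = u • N.m e := by
  have h1 : N'.y ∈ Ideal.span {N.y} := by
    rw [← N.hJ, N'.hJ]
    exact Ideal.mem_span_singleton_self _
  rw [Ideal.mem_span_singleton] at h1
  obtain ⟨u, hu⟩ := h1
  rw [mul_comm] at hu
  refine ⟨u, hu, ?_, ?_⟩
  · apply val_injective J
    refine N'.ht.trans ?_
    refine hu.trans ?_
    refine Eq.trans ?_ (val_smul J u (show Γ(ClSub.idealMod J, U.1) from N.t)).symm
    exact congrArg (fun t => u * t) N.ht.symm
  · intro e
    apply co_ext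
    intro i
    rw [N'.hm, map_smul, N.hm, hu, smul_eq_mul, mul_assoc]

theorem exists_restrict {V : X.affineOpens} (h : V.1 ≤ U.1) : ∃ N' : Loc n J V,
    N'.y = resO X h N.y ∧ N'.t = res _ h N.t ∧ ∀ e, res _ h (N.m e) = N'.m (res _ h e) := by
  have h1 := genOn_of_affine N.hy N.hJ V h
  have h2 : val J (show Γ(ClSub.idealMod J, V.1) from res _ h N.t) = resO X h N.y := by
    rw [← N.ht]
    exact val_res J h (show Γ(ClSub.idealMod J, U.1) from N.t)
  obtain ⟨m, hm⟩ := exists_m (n := n) (y := resO X h N.y) h1.2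
  refine ⟨⟨resO X h N.y, h1.1, h1.2, res _ h N.t, h2, m, hm⟩, rfl, rfl, fun e => ?_⟩
  apply co_ext
  intro i
  change _ = co _ i V.1 (m (res _ h e))
  rw [co_res, N.hm, hm, lin_res, map_mul]

theorem lin_m (f : Sec (FlatMod.freeMod X (n - 1)) U.1) : lin (IdealSum.s fun _ : Fin n => J) U.1 (N.m f) = 0 := by
  rw [lin_eq]
  simp only [N.hm]
  rw [← Finset.mul_sum]
  rcases n with _ | k
  · simp
  · rw [Fin.sum_univ_succ]
    have h1 : lin (c X (k + 1) 0) U.1 f = - ∑ j : Fin k, lin (c X (k + 1) j.succ) U.1 f := by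
      change toO (appS (-∑ j, freeProj X k j) U.1 f) = - ∑ j, toO (appS (freeProj X k j) U.1 f)
      rw [appS_neg, appS_sum]
      have h2 : ∀ a : Sec (Coh.structureModule X) U.1, toO (-a) = - toO a := fun a => rfl
      rw [h2, toO_sum]
    rw [h1, neg_add_cancel, mul_zero]

end Loc

/-- The splitting data. -/
theorem exists_split {k : ℕ} {U : X.affineOpens} (N : Loc (k + 1) J U) :
    ∃ (θ : Sec (IdealSum.E fun _ : Fin (k + 1) => J) U.1 →ₗ[Γ(X, U.1)] Γ(X, U.1))
      (b : Sec (IdealSum.E fun _ : Fin (k + 1) => J) U.1)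
      (ρ : Sec (IdealSum.E fun _ : Fin (k + 1) => J) U.1 →ₗ[Γ(X, U.1)] Sec (FlatMod.freeMod X k) U.1),
      (∀ e, lin (IdealSum.s fun _ : Fin (k + 1) => J) U.1 e = N.y * θ e) ∧ θ b = 1 ∧
      (∀ f, θ (N.m f) = 0) ∧ (∀ f, ρ (N.m f) = f) ∧ ∀ e, N.m (ρ e) = e - θ e • b := by
  obtain ⟨b, hb, hb1, hb2⟩ := isLocBasis_gen (fun _ : Fin (k + 1) => J) (fun _ => N.y) (fun _ => N.hy)
    (fun _ => N.hJ)
  let B := hb.basis (le_refl U.1)
  have hB : ∀ i, B i = b i := fun i => by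
    rw [IsLocBasis.basis_apply, res_self]
  have hco : ∀ e i, co (fun _ : Fin (k + 1) => J) i U.1 e = N.y * B.coord i e := by
    intro e i
    conv_lhs => rw [← B.sum_repr e]
    rw [map_sum, Finset.sum_eq_single i]
    · rw [map_smul, hB, hb1, smul_eq_mul, mul_comm]
      rfl
    · intro j _ hj
      rw [map_smul, hB, hb2 j i hj, smul_zero]
    · intro h
      exact absurd (Finset.mem_univ i) h
  let fB : Fin k → Sec (FlatMod.freeMod X k) U.1 := fun j => res _ le_top (freeBasis X k j)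
  let θ : Sec (IdealSum.E fun _ : Fin (k + 1) => J) U.1 →ₗ[Γ(X, U.1)] Γ(X, U.1) := ∑ i, B.coord i
  let ρ : Sec (IdealSum.E fun _ : Fin (k + 1) => J) U.1 →ₗ[Γ(X, U.1)] Sec (FlatMod.freeMod X k) U.1 :=
    ∑ j : Fin k, (B.coord j.succ).smulRight (fB j)
  have hθ : ∀ e, θ e = ∑ i, B.coord i e := fun e => by
    simp only [θ, LinearMap.sum_apply]
  have hρ : ∀ e, ρ e = ∑ j : Fin k, B.coord j.succ e • fB j := fun e => by
    simp only [ρ, LinearMap.sum_apply, LinearMap.smulRight_apply]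
  have hcoord : ∀ f i, B.coord i (N.m f) = lin (c X (k + 1) i) U.1 f := by
    intro f i
    have h1 := hco (N.m f) i
    rw [N.hm] at h1
    exact ((mul_cancel_left_mem_nonZeroDivisors N.hy).1 h1).symm
  have hproj : ∀ (a : Fin k → Γ(X, U.1)) (j : Fin k),
      lin (freeProj X k j) U.1 (∑ l, a l • fB l) = a j := by
    intro a j
    have h2 : (∑ l, a l • fB l) = comb (freeBasis X k) (le_top : U.1 ≤ ⊤) a := rfl
    rw [h2, comb_apply, map_sum, Finset.sum_eq_single j]
    · rw [map_smul, lin_res, lin_apply, freeBasis, ← appS_comp, ι_freeProj, if_pos rfl, appS_id, toO_one,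
        map_one, smul_eq_mul, mul_one]
    · intro i _ hi
      rw [map_smul, lin_res, lin_apply, freeBasis, ← appS_comp, ι_freeProj, if_neg hi, appS_zero, toO_zero,
        map_zero, smul_zero]
    · intro h
      exact absurd (Finset.mem_univ j) h
  have hfree : ∀ f : Sec (FlatMod.freeMod X k) U.1, ∑ j, lin (freeProj X k j) U.1 f • fB j = f := by
    intro f
    obtain ⟨a, rfl⟩ := (free_isLocBasis X k U.1 le_top).2 f
    have h2 : comb (freeBasis X k) (le_top : U.1 ≤ ⊤) a = ∑ l, a l • fB l := rfl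
    rw [h2]
    simp only [hproj]
  refine ⟨θ, B 0, ρ, ?_, ?_, ?_, ?_, ?_⟩
  · intro e
    rw [lin_eq, hθ, Finset.mul_sum]
    exact Finset.sum_congr rfl fun i _ => hco e i
  · rw [hθ, Finset.sum_eq_single 0]
    · simp
    · intro j _ hj
      rw [Module.Basis.coord_apply, Module.Basis.repr_self, Finsupp.single_apply, if_neg (Ne.symm hj)]
    · intro h
      exact absurd (Finset.mem_univ _) h
  · intro f
    have h1 := N.lin_m f
    rw [lin_eq] at h1
    have h2 : N.y * θ (N.m f) = N.y * 0 := by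
      rw [hθ, Finset.mul_sum, mul_zero, ← h1]
      exact Finset.sum_congr rfl fun i _ => (hco _ i).symm
    exact (mul_cancel_left_mem_nonZeroDivisors N.hy).1 h2
  · intro f
    rw [hρ]
    conv_rhs => rw [← hfree f]
    refine Finset.sum_congr rfl fun j _ => ?_
    rw [hcoord]
    rfl
  · intro e
    apply co_ext
    intro i
    rw [N.hm, hco]
    congr 1
    rw [map_sub, map_smul]
    refine Fin.cases ?_ (fun j => ?_) i
    · have h3 : lin (c X (k + 1) 0) U.1 (ρ e) = - ∑ j : Fin k, lin (freeProj X k j) U.1 (ρ e) := by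
        change toO (appS (-∑ j, freeProj X k j) U.1 (ρ e)) = - ∑ j, toO (appS (freeProj X k j) U.1 (ρ e))
        rw [appS_neg, appS_sum]
        have h2 : ∀ a : Sec (Coh.structureModule X) U.1, toO (-a) = - toO a := fun a => rfl
        rw [h2, toO_sum]
      rw [h3, hρ]
      simp only [hproj]
      rw [hθ, Fin.sum_univ_succ, Module.Basis.coord_apply, Module.Basis.coord_apply, Module.Basis.repr_self,
        Finsupp.single_eq_same, smul_eq_mul, mul_one]
      ring
    · have h3 : lin (c X (k + 1) j.succ) U.1 (ρ e) = lin (freeProj X k j) U.1 (ρ e) := rfl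
      rw [h3, hρ, hproj, Module.Basis.coord_apply, Module.Basis.coord_apply, Module.Basis.repr_self,
        Finsupp.single_apply, if_neg (Fin.succ_ne_zero j).symm, smul_zero, sub_zero]

/-- The relation between sections of an exterior power of `O^{n-1}` and cycles. -/
def RelZ {q : ℕ} {L : X.Modules} (ψ : Phi q (FlatMod.freeMod X (n - 1)) L)
    (C : KoszSh.Cx (IdealSum.E fun _ : Fin n => J) (IdealSum.s fun _ : Fin n => J))
    {U : X.affineOpens} (N : Loc n J U) (z : Sec (C.K.cycles q) U.1) (l : Sec L U.1) : Prop :=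
  appS (C.K.iCycles q) U.1 z = ext ψ (ph C q) N.m l

namespace RelZ

variable {q : ℕ} {L : X.Modules} {ψ : Phi q (FlatMod.freeMod X (n - 1)) L}
  {C : KoszSh.Cx (IdealSum.E fun _ : Fin n => J) (IdealSum.s fun _ : Fin n => J)}
  {U : X.affineOpens} {N : Loc n J U}

theorem add {z₁ z₂ : Sec (C.K.cycles q) U.1} {l₁ l₂ : Sec L U.1} (h₁ : RelZ ψ C N z₁ l₁)
    (h₂ : RelZ ψ C N z₂ l₂) : RelZ ψ C N (z₁ + z₂) (l₁ + l₂) := by
  unfold RelZ at *
  rw [map_add, map_add, h₁, h₂]

theorem smul (a : Γ(X, U.1)) {z : Sec (C.K.cycles q) U.1} {l : Sec L U.1} (h : RelZ ψ C N z l) :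
    RelZ ψ C N (a • z) (a • l) := by
  unfold RelZ at *
  rw [map_smul, map_smul, h]

theorem res (hψ : PhiComp ψ) {V : X.affineOpens} (hV : V.1 ≤ U.1) {N' : Loc n J V}
    (hN : ∀ e, Groth.Agent.Sga67.Sec.res _ hV (N.m e) = N'.m (Groth.Agent.Sga67.Sec.res _ hV e))
    {z : Sec (C.K.cycles q) U.1} {l : Sec L U.1}
    (h : RelZ ψ C N z l) : RelZ ψ C N' (Groth.Agent.Sga67.Sec.res _ hV z)
      (Groth.Agent.Sga67.Sec.res _ hV l) := by
  unfold RelZ at *
  rw [appS_res, h, res_ext hψ (ph_comp C q) hV N.m N'.m hN]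

theorem change {N' : Loc n J U} {u : Γ(X, U.1)} (hu : ∀ e, N'.m e = u • N.m e)
    {z : Sec (C.K.cycles q) U.1} {l : Sec L U.1} (h : RelZ ψ C N' z l) : RelZ ψ C N z (u ^ q • l) := by
  unfold RelZ at *
  rw [h, ext_smul N.m N'.m u hu, map_smul]

theorem ext_injective : Function.Injective (ext ψ (ph C q) N.m) := by
  have h1 : Function.Injective (exteriorPower.map q N.m) := by
    rcases n with _ | k
    · have h2 : Subsingleton (Sec (FlatMod.freeMod X (0 - 1)) U.1) := by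
        constructor
        intro a b
        obtain ⟨a', rfl⟩ := (free_isLocBasis X 0 U.1 le_top).2 a
        obtain ⟨b', rfl⟩ := (free_isLocBasis X 0 U.1 le_top).2 b
        congr 1
        funext i
        exact i.elim0
      have hE : Subsingleton (Sec (IdealSum.E fun _ : Fin 0 => J) U.1) :=
        ⟨fun a b => co_ext _ fun i => i.elim0⟩
      exact KosKer.map_injective N.m 0 (fun f => Subsingleton.elim _ _) q
    · obtain ⟨θ, b, ρ, -, -, -, h3, -⟩ := exists_split N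
      exact KosKer.map_injective N.m ρ h3 q
  intro a b hab
  have h2 := congrArg (ph C q U) hab
  rw [ψ_ext, ψ_ext] at h2
  exact (ψ U).injective (h1 h2)

theorem eq_zero_left {l : Sec L U.1} (h : RelZ ψ C N 0 l) : l = 0 := by
  unfold RelZ at h
  apply ext_injective (ψ := ψ) (C := C) (N := N)
  rw [← h, map_zero, map_zero]

theorem eq_zero_right {z : Sec (C.K.cycles q) U.1} (h : RelZ ψ C N z 0) : z = 0 := by
  unfold RelZ at h
  rw [map_zero] at h
  exact iCycles_injective C.K q U.1 (h.trans (map_zero _).symm)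

theorem exists_left (l : Sec L U.1) : ∃ z, RelZ ψ C N z l := by
  refine exists_cycle C.K q _ rfl (ext ψ (ph C q) N.m l) ?_
  generalize (ComplexShape.down ℕ).next q = j
  by_cases hj : j + 1 = q
  · subst hj
    apply (ph C j U).injective
    rw [isCtr C j U, ψ_ext, map_zero]
    exact KosKer.ctr_map_zero _ _ (fun f => N.lin_m f) j _
  · rw [C.K.shape q j hj, appS_zero]

theorem exists_right (z : Sec (C.K.cycles q) U.1) : ∃ l, RelZ ψ C N z l := by
  have h1 : ∃ η, exteriorPower.map q N.m η = ph C q U (appS (C.K.iCycles q) U.1 z) := by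
    rcases n with _ | k
    · have h2 : Subsingleton (Sec (FlatMod.freeMod X (0 - 1)) U.1) := by
        constructor
        intro a b
        obtain ⟨a', rfl⟩ := (free_isLocBasis X 0 U.1 le_top).2 a
        obtain ⟨b', rfl⟩ := (free_isLocBasis X 0 U.1 le_top).2 b
        congr 1
        funext i
        exact i.elim0
      have hE : Subsingleton (Sec (IdealSum.E fun _ : Fin 0 => J) U.1) :=
        ⟨fun a b => co_ext _ fun i => i.elim0⟩
      refine ⟨exteriorPower.map q (0 : Sec (IdealSum.E fun _ : Fin 0 => J) U.1 →ₗ[Γ(X, U.1)]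
        Sec (FlatMod.freeMod X (0 - 1)) U.1) (ph C q U (appS (C.K.iCycles q) U.1 z)), ?_⟩
      exact KosKer.map_map_id (0 : Sec (IdealSum.E fun _ : Fin 0 => J) U.1 →ₗ[Γ(X, U.1)]
          Sec (FlatMod.freeMod X (0 - 1)) U.1) N.m (fun f => Subsingleton.elim _ _) q _
    · obtain ⟨θ, b, ρ, h4, h5, h6, h7, h8⟩ := exists_split N
      rcases q with _ | q
      · exact KosKer.mem_range_zero N.m _
      · refine KosKer.mem_range_of_ctr_eq_zero θ b N.m ρ h8 q _ ?_
        have h9 : N.y • ctr θ q (ph C (q + 1) U (appS (C.K.iCycles (q + 1)) U.1 z)) = 0 := by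
          have h10 := isCtr C q U (appS (C.K.iCycles (q + 1)) U.1 z)
          rw [d_iCycles, map_zero] at h10
          have h11 := KosKer.ctr_smul_form (lin (IdealSum.s fun _ : Fin (k + 1) => J) U.1) θ N.y h4 q
            (ph C (q + 1) U (appS (C.K.iCycles (q + 1)) U.1 z))
          rw [← h11, ← h10]
        obtain ⟨b', hb', -⟩ := isLocBasis_gen (fun _ : Fin (k + 1) => J) (fun _ => N.y) (fun _ => N.hy)
          (fun _ => N.hJ)
        apply (ph C q U).symm.injective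
        rw [map_zero]
        apply smul_regular_X C hb' N.hy
        rw [← map_smul, h9, map_zero]
  obtain ⟨η, hη⟩ := h1
  refine ⟨(ψ U).symm η, ?_⟩
  unfold RelZ
  apply (ph C q U).injective
  rw [ψ_ext, LinearEquiv.apply_symm_apply, hη]

end RelZ

theorem RelZ.π_eq_zero_iff {k : ℕ} {q : ℕ} {L : X.Modules} {ψ : Phi q (FlatMod.freeMod X k) L}
    {C : KoszSh.Cx (IdealSum.E fun _ : Fin (k + 1) => J) (IdealSum.s fun _ : Fin (k + 1) => J)}
    (hK : ∀ p, Coh.IsQCoh (C.K.X p)) {U : X.affineOpens} {N : Loc (k + 1) J U}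
    {z : Sec (C.K.cycles q) U.1} {l : Sec L U.1} (h : RelZ (n := k + 1) ψ C N z l) :
    appS (C.K.homologyπ q) U.1 z = 0 ↔ ∃ l' : Sec L U.1, l = N.y • l' := by
  obtain ⟨θ, b, ρ, h4, h5, h6, h7, h8⟩ := exists_split N
  rw [Homol.π_eq_zero_iff C.K hK q U.2]
  unfold RelZ at h
  rw [h]
  constructor
  · rintro ⟨e, he⟩
    have h9 := congrArg (ph C q U) he
    rw [isCtr C q U, ψ_ext, KosKer.ctr_smul_form (lin (IdealSum.s fun _ : Fin (k + 1) => J) U.1) θ N.y h4 q]
      at h9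
    have h10 : ∃ η, exteriorPower.map q N.m η = ctr θ q (ph C (q + 1) U e) := by
      rcases q with _ | q
      · exact KosKer.mem_range_zero N.m _
      · exact KosKer.mem_range_of_ctr_eq_zero θ b N.m ρ h8 q _
          (Groth.Agent.Krr.H502.KosExt.ctr_ctr _ _ _)
    obtain ⟨η, hη⟩ := h10
    refine ⟨(ψ U).symm η, ?_⟩
    apply (ψ U).injective
    rw [map_smul, LinearEquiv.apply_symm_apply]
    apply KosKer.map_injective N.m ρ h7 q
    rw [← h9, map_smul, hη]
  · rintro ⟨l', rfl⟩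
    have h10 : ∃ η, ctr θ q η = exteriorPower.map q N.m (ψ U l') := by
      rcases q with _ | q
      · exact KosKer.exists_ctr_eq_zero θ b h5 _
      · exact KosKer.exists_ctr_eq θ b h5 q _ (KosKer.ctr_map_zero θ N.m h6 q _)
    obtain ⟨η, hη⟩ := h10
    refine ⟨(ph C (q + 1) U).symm η, ?_⟩
    apply (ph C q U).injective
    rw [isCtr C q U, ψ_ext, LinearEquiv.apply_symm_apply,
      KosKer.ctr_smul_form (lin (IdealSum.s fun _ : Fin (k + 1) => J) U.1) θ N.y h4 q, hη, map_smul, map_smul]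

/-- The basis of affine opens over which effective Cartier ideals are principal. -/
theorem basis₂ {J D : X.IdealSheafData} (hJ : BlowUp.IsEffCartierIdeal J) (hD : BlowUp.IsEffCartierIdeal D) :
    Opens.IsBasis (Set.range (fun U : { U : X.affineOpens //
      (∃ y ∈ nonZeroDivisors Γ(X, U.1), J.ideal U = Ideal.span {y}) ∧
      (∃ x ∈ nonZeroDivisors Γ(X, U.1), D.ideal U = Ideal.span {x}) } => U.1.1)) := by
  rw [Opens.isBasis_iff_nbhd]
  intro V x hx
  obtain ⟨W, a, hxW, ha⟩ := Groth.Agent.Dix.IdealModCartier.exists_genOn hD x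
  obtain ⟨U, hUV, hxU, y, hy, hy'⟩ := exists_gen (fun _ : Fin 1 => J) (fun _ => hJ) x (V ⊓ W.1) ⟨hx, hxW⟩
  exact ⟨U.1, ⟨⟨U, ⟨_, hy 0, hy' 0⟩, ⟨_, (ha U (hUV.trans inf_le_right)).1, (ha U (hUV.trans inf_le_right)).2⟩⟩,
      rfl⟩, hxU, hUV.trans inf_le_left⟩

/-- The cycles are `Λ^q O^{n-1} ⊗ I^{⊗ q}`. -/
theorem nonempty_cycles_iso (hJ : BlowUp.IsEffCartierIdeal J)
    (C : KoszSh.Cx (IdealSum.E fun _ : Fin n => J) (IdealSum.s fun _ : Fin n => J)) (q : ℕ)
    {L : X.Modules} (hL : ExtPow.IsExtPow q (FlatMod.freeMod X (n - 1)) L) :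
    Nonempty (C.K.cycles q ≅ CohB1.tensorMod L (CohB1.tensorPow (ClSub.idealMod J) q)) := by
  obtain ⟨ψ, hψ⟩ := exists_phi hL
  have hB := basis₂ hJ hJ
  let 𝓑 : Type u := { U : X.affineOpens //
      (∃ y ∈ nonZeroDivisors Γ(X, U.1), J.ideal U = Ideal.span {y}) ∧
      (∃ x ∈ nonZeroDivisors Γ(X, U.1), J.ideal U = Ideal.span {x}) }
  have hN : ∀ U : 𝓑, Nonempty (Loc n J U.1) := fun U => by
    obtain ⟨⟨y, hy, hy'⟩, -⟩ := U.2
    exact exists_loc n hy hy'
  let N : ∀ U : 𝓑, Loc n J U.1 := fun U => (hN U).some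
  have htw : ∀ U : 𝓑, Function.Bijective (tw L (tpow (ClSub.idealMod J) (N U).t q)) := fun U =>
    twist_bijective L (isLocBasis_tpow _ (N U).isLocBasis_t q)
  refine nonempty_iso_of_rel (B := fun U : 𝓑 => U.1.1) hB _ _
    (fun U z w => ∃ l, RelZ ψ C (N U) z l ∧ tw L (tpow (ClSub.idealMod J) (N U).t q) l = w)
    ?_ ?_ ?_ ?_ ?_ ?_ ?_
  · rintro U z z' w w' ⟨l, h, rfl⟩ ⟨l', h', rfl⟩
    exact ⟨l + l', h.add h', map_add _ _ _⟩
  · rintro U a z w ⟨l, h, rfl⟩
    exact ⟨a • l, h.smul a, map_smul _ _ _⟩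
  · intro U z
    obtain ⟨l, hl⟩ := RelZ.exists_right (ψ := ψ) (N := N U) z
    exact ⟨_, l, hl, rfl⟩
  · intro U w
    obtain ⟨l, rfl⟩ := (htw U).2 w
    obtain ⟨z, hz⟩ := RelZ.exists_left (ψ := ψ) (C := C) (N := N U) l
    exact ⟨z, l, hz, rfl⟩
  · rintro U w ⟨l, h, rfl⟩
    rw [h.eq_zero_left, map_zero]
  · rintro U z ⟨l, h, hl⟩
    have : l = 0 := (htw U).1 (hl.trans (map_zero _).symm)
    subst this
    exact h.eq_zero_right
  · rintro U V hV z w ⟨l, h, rfl⟩
    obtain ⟨N₁, -, h₂, h₃⟩ := (N U).exists_restrict hV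
    obtain ⟨u, -, h₄, h₅⟩ := (N V).exists_factor N₁
    refine ⟨_, (h.res hψ hV h₃).change h₅, ?_⟩
    rw [res_tw, res_tpow, ← h₂, h₄, tpow_smul, tw_smul]

theorem isFinLocFree_structure : FlatMod.IsFinLocFree (Coh.structureModule X) := by
  apply isFinLocFree_of_exists
  intro x
  exact ⟨⊤, Unit, inferInstance, _, trivial, isLocBasis_one⟩

theorem isFinLocFree_tpow {M : X.Modules} (hM : FlatMod.IsFinLocFree M) (q : ℕ) :
    FlatMod.IsFinLocFree (CohB1.tensorPow M q) := by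
  induction q with
  | zero => exact isFinLocFree_structure
  | succ q ih => exact isFinLocFree_tensorMod ih hM

theorem isFinLocFree_idealMod (hJ : BlowUp.IsEffCartierIdeal J) : FlatMod.IsFinLocFree (ClSub.idealMod J) := by
  apply isFinLocFree_of_exists
  intro x
  obtain ⟨U, -, hxU, y, hy, hy'⟩ := exists_gen (fun _ : Fin 1 => J) (fun _ => hJ) x ⊤ trivial
  obtain ⟨t, ht⟩ := exists_lift (hy' 0)
  exact ⟨U.1, Unit, inferInstance, _, hxU, isLocBasis_of_genOn (ht.symm ▸ genOn_of_affine (hy 0) (hy' 0))⟩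

/-- `(Z_q(-qD))|_D ≅ Tor_q(O_D, …, O_D)(-qY)`. -/
theorem nonempty_restrict_iso {k : ℕ} (hJ : BlowUp.IsEffCartierIdeal J) {D : X.IdealSheafData}
    (hD : BlowUp.IsEffCartierIdeal D)
    (C : KoszSh.Cx (IdealSum.E fun _ : Fin (k + 1) => J) (IdealSum.s fun _ : Fin (k + 1) => J))
    (CD : KoszSh.Cx (IdealSum.E fun _ : Fin (k + 1) => D) (IdealSum.s fun _ : Fin (k + 1) => D)) (q : ℕ)
    {L : X.Modules} (hL : ExtPow.IsExtPow q (FlatMod.freeMod X k) L) :
    Nonempty ((F D).obj (CohB1.tensorMod (C.K.cycles q) (CohB1.tensorPow (ClSub.idealMod D) q)) ≅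
      CohB1.tensorMod (CD.K.homology q) (CohB1.tensorPow (ClSub.idealMod J) q)) := by
  obtain ⟨ψ, hψ⟩ := exists_phi hL
  have hB := basis₂ hJ hD
  let 𝓑 : Type u := { U : X.affineOpens //
      (∃ y ∈ nonZeroDivisors Γ(X, U.1), J.ideal U = Ideal.span {y}) ∧
      (∃ x ∈ nonZeroDivisors Γ(X, U.1), D.ideal U = Ideal.span {x}) }
  let N : ∀ U : 𝓑, Loc (k + 1) J U.1 := fun U =>
    (exists_loc (k + 1) U.2.1.choose_spec.1 U.2.1.choose_spec.2).some
  let ND : ∀ U : 𝓑, Loc (k + 1) D U.1 := fun U =>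
    (exists_loc (k + 1) U.2.2.choose_spec.1 U.2.2.choose_spec.2).some
  set M := CohB1.tensorMod (C.K.cycles q) (CohB1.tensorPow (ClSub.idealMod D) q) with hMdef
  have hM : Coh.IsQCoh M := by
    apply Groth.Agent.PerfA.QCohEpi.isQCoh_of_isFinLocFree
    apply isFinLocFree_tensorMod _ (isFinLocFree_tpow (isFinLocFree_idealMod hD) q)
    obtain ⟨e⟩ := nonempty_cycles_iso hJ C q hL
    apply isFinLocFree_of_iso e.symm
    apply isFinLocFree_tensorMod _ (isFinLocFree_tpow (isFinLocFree_idealMod hJ) q)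
    refine isFinLocFree_of_isExtPow ?_ hL
    apply isFinLocFree_of_exists
    intro x
    exact ⟨⊤, Fin k, inferInstance, _, trivial, free_isLocBasis X k⟩
  have hK := Twisted.isQCoh_X (fun _ => hJ) C
  have hKD := Twisted.isQCoh_X (fun _ => hD) CD
  have htw : ∀ U : 𝓑, Function.Bijective (tw (C.K.cycles q) (tpow (ClSub.idealMod D) (ND U).t q)) := fun U =>
    twist_bijective _ (isLocBasis_tpow _ (ND U).isLocBasis_t q)
  have htw' : ∀ U : 𝓑, Function.Bijective (tw (CD.K.homology q) (tpow (ClSub.idealMod J) (N U).t q)) := fun U =>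
    twist_bijective _ (isLocBasis_tpow _ (N U).isLocBasis_t q)
  refine nonempty_iso_of_rel (B := fun U : 𝓑 => U.1.1) hB _ _
    (fun U v w => ∃ (l : Sec L U.1.1) (z : Sec (C.K.cycles q) U.1.1) (zD : Sec (CD.K.cycles q) U.1.1),
      RelZ (n := k + 1) ψ C (N U) z l ∧ RelZ (n := k + 1) ψ CD (ND U) zD l ∧
      appS (η D M) U.1.1 (tw (C.K.cycles q) (tpow (ClSub.idealMod D) (ND U).t q) z) = v ∧
      tw (CD.K.homology q) (tpow (ClSub.idealMod J) (N U).t q) (appS (CD.K.homologyπ q) U.1.1 zD) = w)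
    ?_ ?_ ?_ ?_ ?_ ?_ ?_
  · rintro U v v' w w' ⟨l, z, zD, h, hD, rfl, rfl⟩ ⟨l', z', zD', h', hD', rfl, rfl⟩
    exact ⟨l + l', z + z', zD + zD', h.add h', hD.add hD', by rw [map_add, map_add], by rw [map_add, map_add]⟩
  · rintro U a v w ⟨l, z, zD, h, hD, rfl, rfl⟩
    exact ⟨a • l, a • z, a • zD, h.smul a, hD.smul a, by rw [map_smul, map_smul], by rw [map_smul, map_smul]⟩
  · intro U v
    obtain ⟨m, rfl⟩ := η_surjective D hM U.1.2 v
    obtain ⟨z, rfl⟩ := (htw U).2 m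
    obtain ⟨l, hl⟩ := RelZ.exists_right (n := k + 1) (ψ := ψ) (N := N U) z
    obtain ⟨zD, hzD⟩ := RelZ.exists_left (n := k + 1) (ψ := ψ) (C := CD) (N := ND U) l
    exact ⟨_, l, z, zD, hl, hzD, rfl, rfl⟩
  · intro U w
    obtain ⟨h', rfl⟩ := (htw' U).2 w
    obtain ⟨zD, rfl⟩ := π_surjective CD.K hKD q U.1.2 h'
    obtain ⟨l, hl⟩ := RelZ.exists_right (n := k + 1) (ψ := ψ) (N := ND U) zD
    obtain ⟨z, hz⟩ := RelZ.exists_left (n := k + 1) (ψ := ψ) (C := C) (N := N U) l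
    exact ⟨_, l, z, zD, hz, hl, rfl, rfl⟩
  · rintro U w ⟨l, z, zD, h, hzD, hv, rfl⟩
    obtain ⟨m', hm'⟩ := (η_eq_zero_iff D hM U.1 (ND U).hJ _).1 hv
    obtain ⟨z', rfl⟩ := (htw U).2 m'
    rw [← map_smul] at hm'
    have hz : z = (ND U).y • z' := (htw U).1 hm'
    obtain ⟨l', hl'⟩ := RelZ.exists_right (n := k + 1) (ψ := ψ) (N := N U) z'
    have h2 := hl'.smul (ND U).y
    rw [← hz] at h2
    have h3 := h.add (h2.smul (-1))
    rw [neg_smul, neg_smul, _root_.one_smul, _root_.one_smul, add_neg_cancel] at h3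
    have h4 : l = (ND U).y • l' := sub_eq_zero.mp ((sub_eq_add_neg _ _).trans h3.eq_zero_left)
    rw [(RelZ.π_eq_zero_iff hKD hzD).2 ⟨l', h4⟩, map_zero]
  · rintro U v ⟨l, z, zD, h, hzD, rfl, hw⟩
    have h1 : appS (CD.K.homologyπ q) U.1.1 zD = 0 := (htw' U).1 (hw.trans (map_zero _).symm)
    obtain ⟨l', rfl⟩ := (RelZ.π_eq_zero_iff hKD hzD).1 h1
    obtain ⟨z', hz'⟩ := RelZ.exists_left (n := k + 1) (ψ := ψ) (C := C) (N := N U) l'
    have h3 := h.add ((hz'.smul (ND U).y).smul (-1))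
    rw [neg_smul, neg_smul, _root_.one_smul, _root_.one_smul, add_neg_cancel] at h3
    have h4 : z = (ND U).y • z' := sub_eq_zero.mp ((sub_eq_add_neg _ _).trans h3.eq_zero_right)
    rw [h4, map_smul]
    exact (η_eq_zero_iff D hM U.1 (ND U).hJ _).2 ⟨_, rfl⟩
  · rintro U V hV v w ⟨l, z, zD, h, hzD, rfl, rfl⟩
    obtain ⟨N₁, -, h₂, h₃⟩ := (N U).exists_restrict hV
    obtain ⟨u, -, h₄, h₅⟩ := (N V).exists_factor N₁
    obtain ⟨N₁D, -, g₂, g₃⟩ := (ND U).exists_restrict hV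
    obtain ⟨a, -, g₄, g₅⟩ := (ND V).exists_factor N₁D
    have e₁ := ((h.res hψ hV h₃).change h₅).smul (a ^ q)
    have e₂ := ((hzD.res hψ hV g₃).change g₅).smul (u ^ q)
    rw [smul_comm (u ^ q) (a ^ q)] at e₂
    refine ⟨_, _, _, e₁, e₂, ?_, ?_⟩
    · rw [← appS_res, res_tw, res_tpow, ← g₂, g₄, tpow_smul, tw_smul]
    · rw [res_tw, res_tpow, ← h₂, h₄, tpow_smul, tw_smul, ← appS_res, map_smul]

end K880.SameDiv
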