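import Groth.Agent.KoszSh.K880.Acyclic
import Groth.Agent.KoszSh.K880.Homol

/-!
# Exterior powers of a scaling isomorphism on sections

For Koszul complexes `C` of `(E, s)`, `C'` of `(E', s')` and a linear equivalence `m` from the sections of `E` to
those of `E'` over an affine open `U`, `μ m p` is the `p`-th exterior power, read on the sections of the terms.
If `s' (m e) = x s e` then `d' (μ k) = x μ (d k)`.
-/

set_option autoImplicit false

universe u

open CategoryTheory CategoryTheory.Limits AlgebraicGeometry Opposite TopologicalSpace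
open Groth.Agent.Sga67.Sec Groth.Agent.Sga67.LocBasis Groth.Agent.Sga67.ExtSheaf
open Groth.Agent.Sga67.SymKoszulAlg Groth.Agent.Krr.H502.KosSheaf
open K880.Functor K880.Acyclic K880.Homol

namespace K880.Scale

section Alg

variable {R : Type*} [CommRing R] {M N : Type*} [AddCommGroup M] [Module R M] [AddCommGroup N] [Module R N]

theorem ctr_map (φ : M →ₗ[R] R) (ψ : N →ₗ[R] R) (f : M →ₗ[R] N) (x : R) (h : ∀ m, ψ (f m) = x * φ m)
    (p : ℕ) (ω : ⋀[R]^(p + 1) M) :
    ctr ψ p (exteriorPower.map (p + 1) f ω) = x • exteriorPower.map p f (ctr φ p ω) := by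
  have h1 : (ctr ψ p) ∘ₗ (exteriorPower.map (p + 1) f) = x • ((exteriorPower.map p f) ∘ₗ (ctr φ p)) := by
    refine hom_ext' fun v => ?_
    rw [LinearMap.comp_apply, exteriorPower.map_apply_ιMulti, ctr_ιMulti, LinearMap.smul_apply,
      LinearMap.comp_apply, ctr_ιMulti, map_sum, Finset.smul_sum]
    refine Finset.sum_congr rfl fun i _ => ?_
    rw [map_smul, map_smul, exteriorPower.map_apply_ιMulti, Function.comp_apply, h, smul_comm x, smul_smul x]
    rfl
  exact LinearMap.congr_fun h1 ω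

theorem map_smul_map (f g : M →ₗ[R] N) (u : R) (h : ∀ m, g m = u • f m) (p : ℕ) (ω : ⋀[R]^p M) :
    exteriorPower.map p g ω = u ^ p • exteriorPower.map p f ω := by
  have h1 : exteriorPower.map p g = u ^ p • exteriorPower.map p f := by
    refine hom_ext' fun v => ?_
    rw [exteriorPower.map_apply_ιMulti, LinearMap.smul_apply, exteriorPower.map_apply_ιMulti]
    have h2 : (g ∘ v) = fun i => (fun _ : Fin p => u) i • (f ∘ v) i := funext fun i => h (v i)
    rw [h2]
    refine ((exteriorPower.ιMulti R p (M := N)).toMultilinearMap.map_smul_univ _ _).trans ?_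
    rw [Finset.prod_const, Finset.card_univ, Fintype.card_fin]
    rfl
  rw [h1, LinearMap.smul_apply]

end Alg

variable {X : Scheme.{u}} {E E' : X.Modules} {s : E ⟶ Coh.structureModule X}
  {s' : E' ⟶ Coh.structureModule X} (C : KoszSh.Cx E s) (C' : KoszSh.Cx E' s')

/-- The exterior power of a linear equivalence. -/
noncomputable def extEquiv {R : Type*} [CommRing R] {M N : Type*} [AddCommGroup M] [Module R M]
    [AddCommGroup N] [Module R N] (m : M ≃ₗ[R] N) (p : ℕ) : ⋀[R]^p M ≃ₗ[R] ⋀[R]^p N :=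
  LinearEquiv.ofLinearMap (exteriorPower.map p m.toLinearMap) (exteriorPower.map p m.symm.toLinearMap)
    (by
      refine hom_ext' fun v => ?_
      rw [LinearMap.comp_apply, exteriorPower.map_apply_ιMulti, exteriorPower.map_apply_ιMulti,
        LinearMap.id_apply]
      congr 1
      funext i
      simp)
    (by
      refine hom_ext' fun v => ?_
      rw [LinearMap.comp_apply, exteriorPower.map_apply_ιMulti, exteriorPower.map_apply_ιMulti,
        LinearMap.id_apply]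
      congr 1
      funext i
      simp)

theorem extEquiv_apply {R : Type*} [CommRing R] {M N : Type*} [AddCommGroup M] [Module R M]
    [AddCommGroup N] [Module R N] (m : M ≃ₗ[R] N) (p : ℕ) (ω : ⋀[R]^p M) :
    extEquiv m p ω = exteriorPower.map p m.toLinearMap ω := rfl

/-- The exterior power of a linear equivalence, between sections of terms of Koszul complexes. -/
noncomputable def μ {U : X.affineOpens} (m : Sec E U.1 ≃ₗ[Γ(X, U.1)] Sec E' U.1) (p : ℕ) :
    Sec (C.K.X p) U.1 ≃ₗ[Γ(X, U.1)] Sec (C'.K.X p) U.1 :=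
  (ph C p U) ≪≫ₗ (extEquiv m p) ≪≫ₗ (ph C' p U).symm

theorem ph_μ {U : X.affineOpens} (m : Sec E U.1 ≃ₗ[Γ(X, U.1)] Sec E' U.1) (p : ℕ)
    (k : Sec (C.K.X p) U.1) :
    ph C' p U (μ C C' m p k) = exteriorPower.map p m.toLinearMap (ph C p U k) := by
  exact (ph C' p U).apply_symm_apply _

theorem μ_symm_ιMulti {U : X.affineOpens} (m : Sec E U.1 ≃ₗ[Γ(X, U.1)] Sec E' U.1) (p : ℕ)
    (e : Fin p → Sec E U.1) :
    μ C C' m p ((ph C p U).symm (exteriorPower.ιMulti _ p e)) =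
      (ph C' p U).symm (exteriorPower.ιMulti _ p (fun j => m (e j))) := by
  apply (ph C' p U).injective
  rw [ph_μ, LinearEquiv.apply_symm_apply, LinearEquiv.apply_symm_apply, exteriorPower.map_apply_ιMulti]
  rfl

theorem d_μ {U : X.affineOpens} (m : Sec E U.1 ≃ₗ[Γ(X, U.1)] Sec E' U.1) (x : Γ(X, U.1))
    (h : ∀ e, lin s' U.1 (m e) = x * lin s U.1 e) (i j : ℕ) (k : Sec (C.K.X i) U.1) :
    appS (C'.K.d i j) U.1 (μ C C' m i k) = x • μ C C' m j (appS (C.K.d i j) U.1 k) := by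
  by_cases hij : j + 1 = i
  · subst hij
    apply (ph C' j U).injective
    rw [isCtr C' j U, ph_μ, map_smul, ph_μ, isCtr C j U]
    exact ctr_map _ _ _ x h j _
  · rw [C.K.shape i j hij, C'.K.shape i j hij, appS_zero, appS_zero, map_zero, smul_zero]

theorem res_μ {U V : X.affineOpens} (h : V.1 ≤ U.1) (m : Sec E U.1 ≃ₗ[Γ(X, U.1)] Sec E' U.1)
    (m' : Sec E V.1 ≃ₗ[Γ(X, V.1)] Sec E' V.1) (hm : ∀ e, res _ h (m e) = m' (res _ h e)) (p : ℕ)
    (k : Sec (C.K.X p) U.1) : res _ h (μ C C' m p k) = μ C C' m' p (res _ h k) := by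
  refine phi_induction (ph C p) U (C := fun k => res _ h (μ C C' m p k) = μ C C' m' p (res _ h k))
    ?_ ?_ ?_ ?_ k
  · simp only [map_zero]
  · intro a b ha hb
    rw [map_add, map_add, map_add, map_add, ha, hb]
  · intro a b hb
    rw [map_smul, res_smul, res_smul, map_smul, hb]
  · intro e
    rw [μ_symm_ιMulti, ph_comp C' p U V h, ph_comp C p U V h, μ_symm_ιMulti]
    simp only [hm]

theorem μ_smul {U : X.affineOpens} (m m' : Sec E U.1 ≃ₗ[Γ(X, U.1)] Sec E' U.1) (u : Γ(X, U.1))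
    (h : ∀ e, m' e = u • m e) (p : ℕ) (k : Sec (C.K.X p) U.1) :
    μ C C' m' p k = u ^ p • μ C C' m p k := by
  apply (ph C' p U).injective
  rw [ph_μ, map_smul, ph_μ]
  exact map_smul_map m.toLinearMap m'.toLinearMap u h p _

/-- Nonzerodivisors act injectively on sections with a local basis. -/
theorem smul_regular {M : X.Modules} {U : X.Opens} {κ : Type*} [Fintype κ] {b : κ → Sec M U}
    (hb : IsLocBasis b) {x : Γ(X, U)} (hx : x ∈ nonZeroDivisors Γ(X, U)) (m : Sec M U) (h : x • m = 0) :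
    m = 0 := by
  obtain ⟨a, rfl⟩ := (hb U le_rfl).2 m
  rw [← map_smul] at h
  have h1 := (hb U le_rfl).1 (h.trans (map_zero _).symm)
  have h2 : a = 0 := by
    funext i
    have h3 := congrFun h1 i
    rw [Pi.smul_apply, Pi.zero_apply, smul_eq_mul, mul_comm] at h3
    exact (mem_nonZeroDivisors_iff_right.1 hx) _ h3
  rw [h2, map_zero]

theorem smul_regular_X {κ : Type*} [Fintype κ] [LinearOrder κ] {U : X.affineOpens} {b : κ → Sec E U.1}
    (hb : IsLocBasis b) {x : Γ(X, U.1)} (hx : x ∈ nonZeroDivisors Γ(X, U.1)) (p : ℕ)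
    (m : Sec (C.K.X p) U.1) (h : x • m = 0) : m = 0 :=
  smul_regular (isLocBasis_extPow (ph C p) (ph_comp C p) hb) hx m h

/-- The relation on cycles. -/
def T (q : ℕ) {U : X.affineOpens} (m : Sec E U.1 ≃ₗ[Γ(X, U.1)] Sec E' U.1)
    (z : Sec (C.K.cycles q) U.1) (z' : Sec (C'.K.cycles q) U.1) : Prop :=
  appS (C'.K.iCycles q) U.1 z' = μ C C' m q (appS (C.K.iCycles q) U.1 z)

variable {C C'}

theorem T.add {q : ℕ} {U : X.affineOpens} {m : Sec E U.1 ≃ₗ[Γ(X, U.1)] Sec E' U.1}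
    {z₁ z₂ : Sec (C.K.cycles q) U.1} {z₁' z₂' : Sec (C'.K.cycles q) U.1} (h₁ : T C C' q m z₁ z₁')
    (h₂ : T C C' q m z₂ z₂') : T C C' q m (z₁ + z₂) (z₁' + z₂') := by
  unfold T at *
  rw [map_add, map_add, map_add, h₁, h₂]

theorem T.smul {q : ℕ} {U : X.affineOpens} {m : Sec E U.1 ≃ₗ[Γ(X, U.1)] Sec E' U.1}
    {z : Sec (C.K.cycles q) U.1} {z' : Sec (C'.K.cycles q) U.1} (a : Γ(X, U.1)) (h : T C C' q m z z') :
    T C C' q m (a • z) (a • z') := by
  unfold T at *
  rw [map_smul, map_smul, map_smul, h]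

theorem T.res {q : ℕ} {U V : X.affineOpens} (hV : V.1 ≤ U.1) {m : Sec E U.1 ≃ₗ[Γ(X, U.1)] Sec E' U.1}
    {m' : Sec E V.1 ≃ₗ[Γ(X, V.1)] Sec E' V.1}
    (hm : ∀ e, Groth.Agent.Sga67.Sec.res _ hV (m e) = m' (Groth.Agent.Sga67.Sec.res _ hV e))
    {z : Sec (C.K.cycles q) U.1} {z' : Sec (C'.K.cycles q) U.1} (h : T C C' q m z z') :
    T C C' q m' (Groth.Agent.Sga67.Sec.res _ hV z) (Groth.Agent.Sga67.Sec.res _ hV z') := by
  unfold T at *
  rw [appS_res, h, res_μ C C' hV m m' hm, appS_res]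

theorem T.change {q : ℕ} {U : X.affineOpens} {m m' : Sec E U.1 ≃ₗ[Γ(X, U.1)] Sec E' U.1} {u : Γ(X, U.1)}
    (hu : ∀ e, m' e = u • m e) {z : Sec (C.K.cycles q) U.1} {z' : Sec (C'.K.cycles q) U.1}
    (h : T C C' q m' z z') : T C C' q m (u ^ q • z) z' := by
  unfold T at *
  rw [h, μ_smul C C' m m' u hu, map_smul, map_smul]

section

variable {U : X.affineOpens} {m : Sec E U.1 ≃ₗ[Γ(X, U.1)] Sec E' U.1} {x : Γ(X, U.1)}
    (h : ∀ e, lin s' U.1 (m e) = x * lin s U.1 e)

include h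

theorem T.exists_right (q : ℕ) (z : Sec (C.K.cycles q) U.1) : ∃ z', T C C' q m z z' := by
  obtain ⟨z', hz'⟩ := exists_cycle C'.K q _ rfl (μ C C' m q (appS (C.K.iCycles q) U.1 z)) (by
    rw [d_μ C C' m x h, d_iCycles, map_zero, smul_zero])
  exact ⟨z', hz'⟩

theorem T.exists_left {κ : Type*} [Fintype κ] [LinearOrder κ] {b : κ → Sec E U.1}
    (hb : IsLocBasis b) (hx : x ∈ nonZeroDivisors Γ(X, U.1)) (q : ℕ) (z' : Sec (C'.K.cycles q) U.1) :
    ∃ z, T C C' q m z z' := by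
  obtain ⟨k, hk⟩ := (μ C C' m q).surjective (appS (C'.K.iCycles q) U.1 z')
  have h1 := d_μ C C' m x h q ((ComplexShape.down ℕ).next q) k
  rw [hk, d_iCycles] at h1
  obtain ⟨z, hz⟩ := exists_cycle C.K q _ rfl k (by
    apply smul_regular_X C hb hx
    apply (μ C C' m _).injective
    rw [map_smul, ← h1, map_zero])
  refine ⟨z, ?_⟩
  unfold T
  rw [hz, hk]

theorem T.π_eq_zero_iff (hK : ∀ p, Coh.IsQCoh (C.K.X p)) (hK' : ∀ p, Coh.IsQCoh (C'.K.X p)) (q : ℕ)
    {z : Sec (C.K.cycles q) U.1} {z' : Sec (C'.K.cycles q) U.1}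
    (hz : T C C' q m z z') : appS (C'.K.homologyπ q) U.1 z' = 0 ↔
      ∃ z₁ : Sec (C.K.cycles q) U.1, appS (C.K.homologyπ q) U.1 z₁ = 0 ∧ z = x • z₁ := by
  rw [Homol.π_eq_zero_iff C'.K hK' q U.2]
  constructor
  · rintro ⟨k', hk'⟩
    obtain ⟨k, rfl⟩ := (μ C C' m (q + 1)).surjective k'
    rw [d_μ C C' m x h] at hk'
    refine ⟨appS (C.K.toCycles (q + 1) q) U.1 k, ?_, ?_⟩
    · rw [← appS_comp, C.K.toCycles_comp_homologyπ]
      rfl
    · apply iCycles_injective C.K q U.1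
      apply (μ C C' m q).injective
      unfold T at hz
      rw [← hz, ← hk', map_smul, map_smul, ← appS_comp, C.K.toCycles_i]
  · rintro ⟨z₁, hz₁, rfl⟩
    rw [Homol.π_eq_zero_iff C.K hK q U.2] at hz₁
    obtain ⟨k, hk⟩ := hz₁
    refine ⟨μ C C' m (q + 1) k, ?_⟩
    unfold T at hz
    rw [d_μ C C' m x h, hz, hk, map_smul, map_smul]

end

end K880.Scale
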